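import Cfsg.Agent.Nodes.RGDFoldSL
import Cfsg.Agent.ChevalleyStructure.Triangular

/-!
# The Sylow 3-subgroups of a group with two commuting root `SL₂`s are not cyclic (task 703)
-/

set_option autoImplicit false
set_option linter.unusedSectionVars false

namespace Cfsg.Agent.H192.Fc

open Cfsg Cfsg.Lie Cfsg.Lie.ChevalleyDatum
open Cfsg.Agent.ChevalleyStructure Cfsg.Agent.ChevalleyStructure.Elts Cfsg.Agent.ChevalleyStructure.SL2Hom
  Cfsg.Agent.ChevalleyStructure.CoxeterGeomTypes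
open Cfsg.Agent.Nodes.RGDFold Cfsg.Agent.Nodes.RGDFoldSL Cfsg.Agent.Nodes.RGDChev

universe u

/-- two commuting elements of order `p` in a group with cyclic Sylow `p`-subgroups -/
theorem mem_zpowers_of_cyclic {G : Type*} [Group G] [Finite G] {p : ℕ} [Fact p.Prime]
    (hc : ∀ P : Sylow p G, IsCyclic ↥(P : Subgroup G)) {x y : G} (hx : orderOf x = p) (hy : orderOf y = p)
    (hxy : Commute x y) : x ∈ Subgroup.zpowers y := by
  classical
  have hp : p.Prime := Fact.out
  let f : Multiplicative ℤ × Multiplicative ℤ →* G :=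
    MonoidHom.noncommCoprod (zpowersHom G x) (zpowersHom G y) (fun a b => by
      rw [zpowersHom_apply, zpowersHom_apply]
      exact (hxy.zpow_left _).zpow_right _)
  have hf : ∀ a b, f (a, b) = x ^ (Multiplicative.toAdd a) * y ^ (Multiplicative.toAdd b) := fun a b => rfl
  have h1 : IsPGroup p ↥f.range := by
    rintro ⟨_, ⟨a, b⟩, rfl⟩
    refine ⟨1, Subtype.ext ?_⟩
    rw [pow_one, Subgroup.coe_pow, Subgroup.coe_one]
    show (f (a, b)) ^ p = 1
    rw [hf, ((hxy.zpow_left _).zpow_right _).mul_pow, ← zpow_natCast, ← zpow_mul, mul_comm _ (p : ℤ), zpow_mul,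
      zpow_natCast, ← hx, pow_orderOf_eq_one, one_zpow, one_mul, ← zpow_natCast, ← zpow_mul,
      mul_comm _ (orderOf x : ℤ), zpow_mul, zpow_natCast, hx, ← hy, pow_orderOf_eq_one, one_zpow]
  obtain ⟨P, hP⟩ := h1.exists_le_sylow
  have hxP : x ∈ (P : Subgroup G) := hP ⟨(Multiplicative.ofAdd 1, 1), by rw [hf]; simp⟩
  have hyP : y ∈ (P : Subgroup G) := hP ⟨(1, Multiplicative.ofAdd 1), by rw [hf]; simp⟩
  have hcyc := hc P
  have := Fintype.ofFinite ↥(P : Subgroup G)
  have h2 := IsCyclic.card_pow_eq_one_le (α := ↥(P : Subgroup G)) hp.pos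
  have hy' : orderOf (⟨y, hyP⟩ : ↥(P : Subgroup G)) = p := by rw [Subgroup.orderOf_mk, hy]
  have h3 : (Finset.univ.filter fun a : ↥(P : Subgroup G) => a ∈ Subgroup.zpowers (⟨y, hyP⟩ : ↥(P : Subgroup G))) =
      Finset.univ.filter fun a : ↥(P : Subgroup G) => a ^ p = 1 := by
    apply Finset.eq_of_subset_of_card_le
    · intro a ha
      rw [Finset.mem_filter] at ha ⊢
      refine ⟨Finset.mem_univ _, ?_⟩
      obtain ⟨i, hi⟩ := ha.2
      have hi' : (⟨y, hyP⟩ : ↥(P : Subgroup G)) ^ i = a := hi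
      have hyp : (⟨y, hyP⟩ : ↥(P : Subgroup G)) ^ p = 1 := Subtype.ext (by
        show y ^ p = 1
        rw [← hy, pow_orderOf_eq_one])
      rw [← hi', ← zpow_natCast, ← zpow_mul, mul_comm, zpow_mul, zpow_natCast, hyp, one_zpow]
    · calc _ ≤ p := h2
        _ = orderOf (⟨y, hyP⟩ : ↥(P : Subgroup G)) := hy'.symm
        _ = Nat.card ↥(Subgroup.zpowers (⟨y, hyP⟩ : ↥(P : Subgroup G))) := (Nat.card_zpowers _).symm
        _ ≤ _ := by
          rw [Nat.card_eq_fintype_card, ← Fintype.card_subtype]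
  have h4 : (⟨x, hxP⟩ : ↥(P : Subgroup G)) ∈ Finset.univ.filter fun a : ↥(P : Subgroup G) =>
      a ∈ Subgroup.zpowers (⟨y, hyP⟩ : ↥(P : Subgroup G)) := by
    rw [h3, Finset.mem_filter]
    refine ⟨Finset.mem_univ _, Subtype.ext ?_⟩
    show x ^ p = 1
    rw [← hx, pow_orderOf_eq_one]
  obtain ⟨i, hi⟩ := (Finset.mem_filter.1 h4).2
  exact ⟨i, congrArg Subtype.val hi⟩

section SL

variable {F : Type*} [Field F]

/-- the element `(-1, 1; -1, 0)` of order three -/
def tS (F : Type*) [Field F] : Matrix.SpecialLinearGroup (Fin 2) F := up 1 * wS 1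

theorem tS_pow : (tS F) ^ 3 = 1 := by
  apply Subtype.ext
  rw [Matrix.SpecialLinearGroup.coe_pow, Matrix.SpecialLinearGroup.coe_one]
  unfold tS
  rw [Matrix.SpecialLinearGroup.coe_mul, coe_wS one_ne_zero]
  show ((!![1, 1; 0, 1] : Matrix (Fin 2) (Fin 2) F) * !![0, 1; -1⁻¹, 0]) ^ 3 = 1
  rw [inv_one, pow_succ, pow_two]
  ext i j
  fin_cases i <;> fin_cases j <;> simp [Matrix.mul_apply, Fin.sum_univ_two]

theorem up_mul (a b : F) : (up a * up b : Matrix.SpecialLinearGroup (Fin 2) F) = up (a + b) := by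
  apply Subtype.ext
  rw [Matrix.SpecialLinearGroup.coe_mul]
  show (!![1, a; 0, 1] : Matrix (Fin 2) (Fin 2) F) * !![1, b; 0, 1] = !![1, a + b; 0, 1]
  ext i j
  fin_cases i <;> fin_cases j <;> simp [Matrix.mul_apply, Fin.sum_univ_two, add_comm]

/-- `[t, up 1] = w up (-3)` -/
theorem tS_comm : tS F * up 1 * (tS F)⁻¹ = wS 1 * up (-2) := by
  rw [mul_inv_eq_iff_eq_mul]
  apply Subtype.ext
  unfold tS
  simp only [Matrix.SpecialLinearGroup.coe_mul, coe_wS one_ne_zero]
  show (!![1, 1; 0, 1] : Matrix (Fin 2) (Fin 2) F) * !![0, 1; -1⁻¹, 0] * !![1, 1; 0, 1] =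
    !![0, 1; -1⁻¹, 0] * !![1, -2; 0, 1] * (!![1, 1; 0, 1] * !![0, 1; -1⁻¹, 0])
  rw [inv_one]
  ext i j
  fin_cases i <;> fin_cases j <;> simp [Matrix.mul_apply, Fin.sum_univ_two]; norm_num

end SL

variable {D : ChevalleyDatum} {l : ℕ} {M : CoxeterMatrix (Fin l)} (hp : IsType D l M) {K : Type u} [Field K]

/-- a representative of the reflection is not in the root group -/
theorem psi_wS_ne {r : ℕ} (hr : D.IsPosRoot r) (hr' : D.IsNegRoot (D.neg r)) (a : K) :
    psi hp.inList K r (wS 1) ≠ psi hp.inList K r (up a) := by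
  intro h
  have h1 : psi hp.inList K r (lo (1 : K)) = psi hp.inList K r (up (-1 : K)) := by
    rw [lo_eq, map_mul, map_mul, map_inv, h, ← map_inv, ← map_mul, ← map_mul]
    congr 1
    rw [mul_inv_eq_iff_eq_mul, up_mul, up_mul, add_comm]
  rw [psi_lo hp.inList hr.1, psi_up hp.inList hr.1] at h1
  have h2 : xG hp.inList r (-1 : K) ∈ D.posUnipotent K ⊓ D.negUnipotent K :=
    ⟨xG_mem_posUnipotent hp.inList hr _, h1 ▸ xG_mem_negUnipotent hp.inList hr' _⟩
  rw [Triangular.pos_inf_neg_eq_bot hp.inList, Subgroup.mem_bot] at h2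
  have h3 : xG hp.inList r (-1 : K) = xG hp.inList r 0 := by rw [h2, xG_zero]
  have h4 := xG_injective hp.inList hr.1 h3
  exact one_ne_zero (neg_eq_zero.1 h4)

include hp in
/-- **The Sylow 3-subgroups are not cyclic.** -/
theorem not_cyclic_three [Finite K] {r s : ℕ} (hr : D.IsPosRoot r) (hr' : D.IsNegRoot (D.neg r)) (hs : D.IsPosRoot s)
    (hs' : D.IsNegRoot (D.neg s))
    (hrs : ∀ r' ∈ [r, D.neg r], ∀ s' ∈ [s, D.neg s], r' < D.nroots ∧ s' < D.nroots ∧
      s' ≠ r' ∧ s' ≠ D.neg r' ∧ D.commTerms r' s' = []) :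
    ¬ ∀ P : Sylow 3 ↥(D.group K), IsCyclic ↥(P : Subgroup ↥(D.group K)) := by
  intro hc
  have : Fact (Nat.Prime 3) := ⟨Nat.prime_three⟩
  have hmem : ∀ {r : ℕ} (hr : r < D.nroots) (g : Matrix.SpecialLinearGroup (Fin 2) K),
      psi hp.inList K r g ∈ D.group K := by
    intro r hr g
    have hneg : D.rootSubgroup K (D.neg r) ≤ D.group K := by
      intro b hb
      obtain ⟨u, rfl⟩ := (mem_rootSubgroup_iff hp.inList _ b).1 hb
      exact xG_mem_group hp.inList _ _
    have hpos : D.rootSubgroup K r ≤ D.group K := by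
      intro b hb
      obtain ⟨u, rfl⟩ := (mem_rootSubgroup_iff hp.inList _ b).1 hb
      exact xG_mem_group hp.inList _ _
    exact sup_le hpos hneg (psi_mem hp.inList hr g)
  have hcomm : ∀ g g', Commute (psi hp.inList K r g) (psi hp.inList K s g') := by
    have key : ∀ r' ∈ [r, D.neg r], ∀ s' ∈ [s, D.neg s],
        D.rootSubgroup K r' ≤ Subgroup.centralizer (D.rootSubgroup K s' : Set (GL D.Idx K)) := by
      intro r' hr' s' hs' a ha
      obtain ⟨t, rfl⟩ := (mem_rootSubgroup_iff hp.inList r' a).1 ha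
      rw [Subgroup.mem_centralizer_iff]
      intro b hb
      obtain ⟨u, rfl⟩ := (mem_rootSubgroup_iff hp.inList s' b).1 hb
      obtain ⟨h1, h2, h3, h4, h5⟩ := hrs r' hr' s' hs'
      exact (commute_of_nil hp h1 h2 h3 h4 h5 t u).symm.eq
    have key2 : ∀ r' ∈ [r, D.neg r], D.rootSubgroup K r' ≤
        Subgroup.centralizer ((D.rootSubgroup K s ⊔ D.rootSubgroup K (D.neg s) : Subgroup _) : Set (GL D.Idx K)) := by
      intro r' hr'
      rw [Subgroup.le_centralizer_iff]
      exact sup_le (Subgroup.le_centralizer_iff.1 (key r' hr' s (by simp)))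
        (Subgroup.le_centralizer_iff.1 (key r' hr' (D.neg s) (by simp)))
    intro g g'
    have h1 := sup_le (key2 r (by simp)) (key2 (D.neg r) (by simp)) (psi_mem hp.inList hr.1 g)
    exact (Subgroup.mem_centralizer_iff.1 h1 _ (psi_mem hp.inList hs.1 g')).symm
  have hone : ∀ {r : ℕ} (hr : D.IsPosRoot r) (hr' : D.IsNegRoot (D.neg r)),
      ¬ Commute (psi hp.inList K r (tS K)) (psi hp.inList K r (up 1)) := by
    intro r hr hr' h
    have h1 : psi hp.inList K r (tS K * up 1 * (tS K)⁻¹) = psi hp.inList K r (up 1) := by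
      rw [map_mul, map_mul, map_inv, h.eq, mul_inv_cancel_right]
    rw [tS_comm, map_mul, ← eq_mul_inv_iff_mul_eq, ← map_inv, ← map_mul] at h1
    refine psi_wS_ne hp hr hr' (3 : K) ?_
    rw [h1]
    congr 1
    rw [mul_inv_eq_iff_eq_mul, up_mul]
    congr 1
    norm_num
  have hord : ∀ {r : ℕ} (hr : D.IsPosRoot r) (hr' : D.IsNegRoot (D.neg r)),
      orderOf (⟨psi hp.inList K r (tS K), hmem hr.1 _⟩ : ↥(D.group K)) = 3 := by
    intro r hr hr'
    refine orderOf_eq_prime ?_ fun h => hone hr hr' ?_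
    · apply Subtype.ext
      show (psi hp.inList K r (tS K)) ^ 3 = 1
      rw [← map_pow, tS_pow, map_one]
    · have h1 : psi hp.inList K r (tS K) = 1 := congrArg Subtype.val h
      rw [h1]
      exact Commute.one_left _
  obtain ⟨i, hi⟩ := mem_zpowers_of_cyclic hc (hord hr hr') (hord hs hs')
    (Subtype.ext (hcomm (tS K) (tS K)).eq)
  apply hone hr hr'
  have h1 : (psi hp.inList K s (tS K)) ^ i = psi hp.inList K r (tS K) := congrArg Subtype.val hi
  rw [← h1]
  exact ((hcomm (up 1) (tS K)).symm).zpow_left i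

end Cfsg.Agent.H192.Fc
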