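import Cfsg.Agent.H192.FcUntw
import Cfsg.Agent.H192.FcThree
import Cfsg.Agent.S1057
import Cfsg.Agent.S0283
import Cfsg.Agent.SmallSimple.S1000.PSLFacts

/-!
# `FieldFix` for the groups `G₂(q)`, `F₄(q)`, `E₆(q)`, `E₇(q)`, `E₈(q)` (task 703)
-/

set_option autoImplicit false
set_option linter.unusedSectionVars false

namespace Cfsg.Agent.H192.Fc

open Cfsg Cfsg.Lie Subgroup
open Cfsg.Agent.BpExc Cfsg.Agent.BpExc.FamInst Cfsg.Agent.CpAut.RgdUntw Cfsg.Agent.OrdDiv Cfsg.Agent.H975.FieldDef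

open scoped commutatorElement

universe u

variable {p : ℕ} [Fact p.Prime]

/-- the centraliser of the derived subgroup -/
theorem cent_commutator {G : Type*} [Group G] (hN : IsSimpleGroup ↥(commutator G))
    (hna : ¬ IsMulCommutative ↥(commutator G)) (hz : ∀ y : G, (∀ z, y * z = z * y) → y = 1) (w : G)
    (hw : w ∈ centralizer (commutator G : Set G)) : w = 1 := by
  have hcen : center ↥(commutator G) = ⊥ := by
    rcases Subgroup.Normal.eq_bot_or_eq_top (inferInstance : (center ↥(commutator G)).Normal) with h | h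
    · exact h
    · exfalso
      refine hna ⟨⟨fun a b => ?_⟩⟩
      have h1 : a ∈ center ↥(commutator G) := by rw [h]; exact mem_top a
      exact (mem_center_iff.1 h1 b).symm
  apply hz
  intro g
  -- `[w, g]` centralises and lies in the derived subgroup
  have h1 : ⁅w, g⁆ ∈ commutator G := Subgroup.commutator_mem_commutator (mem_top w) (mem_top g)
  have hn : (centralizer (commutator G : Set G)).Normal := inferInstance
  have h2 : ⁅w, g⁆ ∈ centralizer (commutator G : Set G) := by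
    rw [commutatorElement_def, mul_assoc, mul_assoc, ← mul_assoc g]
    exact mul_mem hw (hn.conj_mem _ (inv_mem hw) g)
  have h3 : (⟨⁅w, g⁆, h1⟩ : ↥(commutator G)) ∈ center ↥(commutator G) := by
    rw [mem_center_iff]
    intro b
    exact Subtype.ext (mem_centralizer_iff.1 h2 b.1 b.2)
  rw [hcen, mem_bot] at h3
  have h4 : ⁅w, g⁆ = 1 := congrArg Subtype.val h3
  exact commutatorElement_eq_one_iff_mul_comm.1 h4

/-- the four types with simple groups over all fields -/
theorem fieldFix_of {D : ChevalleyDatum} {l : ℕ} {M : CoxeterMatrix (Fin l)}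
    (hp : Nodes.RGDChev.IsType D l M)
    (hD : D ∈ [chevD4, chevF4, chevE6, chevE7, chevE8]) {d : ℕ} {B : Fin l → Fin l → ℤ}
    (hB : FamExt.InvC D l d B) (hd : d ≠ 0) (hdp : d.Coprime p) (hM : SymTwo M) (hp2 : p ≠ 2) {g : ℕ → Grp} {q : ℕ}
    {Y : Type u} [Group Y] {F : Type} [Field F] [Fintype F] (hF : Fintype.card F = q)
    (e : Y ≃* ↥(D.group F))
    (hr : ∀ (N : Type u) [Group N] (F₀ : Type) [Field F₀] [Fintype F₀], (N ≃* ↥(D.group F₀)) →
      Real (g (Fintype.card F₀)) N) : FieldFix p g q Y := by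
  classical
  obtain ⟨r, hr', hFr⟩ := RowsUntw.exists_char F
  have : Fact r.Prime := ⟨hr'⟩
  refine Sb.fieldFix fun x hx hx1 hdv hc => ?_
  have hsF := Cfsg.Agent.S1054.result (F := F) D hD
  have hx' : orderOf (MulAut.congr e x) = p := by
    rw [← hx]
    exact orderOf_injective (MulAut.congr e).toMonoidHom (MulAut.congr e).injective x
  have hex : ∀ y, MulAut.congr e x y = e (x (e.symm y)) := fun _ => rfl
  have hx1' : ¬ ∃ g, MulAut.congr e x = MulAut.conj g := by
    rintro ⟨g, hg⟩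
    refine hx1 ⟨e.symm g, MulEquiv.ext fun y => ?_⟩
    have h2 := DFunLike.congr_fun hg (e y)
    rw [hex, e.symm_apply_apply, MulAut.conj_apply] at h2
    have h3 := congrArg e.symm h2
    rw [e.symm_apply_apply, map_mul, map_mul, map_inv, e.symm_apply_apply] at h3
    rw [MulAut.conj_apply]
    exact h3
  obtain ⟨F₀, h1, h2, h3⟩ := sb_untw (r := r) hp hB hd hdp hM (Cfsg.Agent.S1054.result D hD) hsF hp2 hx' hx1'
  have := Fintype.ofFinite ↥F₀
  have hs₀ := Cfsg.Agent.S1054.result (F := ↥F₀) D hD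
  refine ⟨Fintype.card ↥F₀, ↥(⊤ : Subgroup ↥(D.group ↥F₀)), inferInstance, ?_, ?_, ?_, ?_, ?_⟩
  · rw [← hF, ← Nat.card_eq_fintype_card, h1, Nat.card_eq_fintype_card]
  · have := hs₀.1
    exact (topEquiv (G := ↥(D.group ↥F₀))).isSimpleGroup
  · intro hcm
    refine hs₀.2 ⟨⟨fun a b => topEquiv.symm.injective ?_⟩⟩
    rw [map_mul, map_mul]
    exact hcm.is_comm.comm _ _
  · intro N _ eN
    exact Or.inl (hr N ↥F₀ (eN.trans topEquiv))
  · refine Sb.congr e.symm (x := MulAut.congr e x) (fun y => ?_) (h3 ⊤ inferInstance fun w hw => h2 w fun z => ?_)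
    · rw [hex, e.symm_apply_apply]
    · exact (mem_centralizer_iff.1 hw z (mem_top z)).symm

theorem fieldFix_f4 (hp2 : p ≠ 2) {q : ℕ} {Y : Type u} [Group Y] (hY : Real (.f4 q) Y) :
    FieldFix p .f4 q Y := by
  obtain ⟨F, _, _, hF, ⟨e⟩⟩ := hY
  exact fieldFix_of RowsUntw.f4T (by simp) inv_F4 one_ne_zero (Nat.coprime_one_left p) symTwo_F4 hp2 hF e
    fun N _ F₀ _ _ eN => ⟨F₀, inferInstance, inferInstance, rfl, ⟨eN⟩⟩

theorem fieldFix_e7 (hp2 : p ≠ 2) {q : ℕ} {Y : Type u} [Group Y] (hY : Real (.e7 q) Y) :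
    FieldFix p .e7 q Y := by
  obtain ⟨F, _, _, hF, ⟨e⟩⟩ := hY
  exact fieldFix_of RowsUntw.e7T (by simp) inv_E7 two_ne_zero
    ((Nat.coprime_primes Nat.prime_two Fact.out).2 hp2.symm) symTwo_E7 hp2 hF e
    fun N _ F₀ _ _ eN => ⟨F₀, inferInstance, inferInstance, rfl, ⟨eN⟩⟩

theorem fieldFix_e8 (hp2 : p ≠ 2) {q : ℕ} {Y : Type u} [Group Y] (hY : Real (.e8 q) Y) :
    FieldFix p .e8 q Y := by
  obtain ⟨F, _, _, hF, ⟨e⟩⟩ := hY
  exact fieldFix_of RowsUntw.e8T (by simp) inv_E8 one_ne_zero (Nat.coprime_one_left p) symTwo_E8 hp2 hF e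
    fun N _ F₀ _ _ eN => ⟨F₀, inferInstance, inferInstance, rfl, ⟨eN⟩⟩

/-- the Sylow 3-subgroups of `E₆(q)` are not cyclic -/
theorem e6_three {F : Type} [Field F] [Finite F] :
    ¬ ∀ P : Sylow 3 ↥(chevE6.group F), IsCyclic ↥(P : Subgroup ↥(chevE6.group F)) := by
  refine not_cyclic_three RowsUntw.e6T (r := chevE6.simple 0) (s := chevE6.simple 1) ?_ ?_ ?_ ?_ ?_
  · decide
  · decide
  · decide
  · decide
  · decide

theorem fieldFix_e6 (hp2 : p ≠ 2) {q : ℕ} {Y : Type u} [Group Y] (hY : Real (.e6 q) Y) :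
    FieldFix p .e6 q Y := by
  obtain ⟨F, _, _, hF, ⟨e⟩⟩ := hY
  by_cases hp3 : p = 3
  · subst hp3
    intro x hx hx1 hd hc
    exfalso
    have : Finite Y := Finite.of_equiv _ e.symm.toEquiv
    refine e6_three (F := F) fun P => ?_
    obtain ⟨Q, hQ⟩ : ∃ Q : Sylow 3 Y, (Q : Subgroup Y) = (P : Subgroup ↥(chevE6.group F)).comap e.toMonoidHom :=
      ⟨P.comapOfInjective e.toMonoidHom e.injective (by
        intro x _
        exact ⟨e.symm x, e.apply_symm_apply x⟩), rfl⟩
    have h1 := hc Q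
    rw [hQ] at h1
    have h3 : ((P : Subgroup ↥(chevE6.group F)).comap e.toMonoidHom).map e.toMonoidHom = (P : Subgroup _) :=
      Subgroup.map_comap_eq_self (fun x _ => ⟨e.symm x, e.apply_symm_apply x⟩)
    have h4 : IsCyclic ↥(((P : Subgroup ↥(chevE6.group F)).comap e.toMonoidHom).map e.toMonoidHom) :=
      isCyclic_of_surjective (e.subgroupMap ((P : Subgroup ↥(chevE6.group F)).comap e.toMonoidHom))
        (e.subgroupMap ((P : Subgroup ↥(chevE6.group F)).comap e.toMonoidHom)).surjective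
    rwa [h3] at h4
  · exact fieldFix_of RowsUntw.e6T (by simp) inv_E6 three_ne_zero
      ((Nat.coprime_primes Nat.prime_three Fact.out).2 (Ne.symm hp3)) symTwo_E6 hp2 hF e
      fun N _ F₀ _ _ eN => ⟨F₀, inferInstance, inferInstance, rfl, ⟨eN⟩⟩

theorem fieldFix_g2 (hp2 : p ≠ 2) {q : ℕ} (hq : 3 ≤ q) {Y : Type u} [Group Y]
    (hY : Real (.g2 q) Y) : FieldFix p .g2 q Y := by
  classical
  obtain ⟨F, _, _, hF, ⟨e⟩⟩ := hY
  obtain ⟨r, hr', hFr⟩ := RowsUntw.exists_char F
  have : Fact r.Prime := ⟨hr'⟩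
  refine Sb.fieldFix fun x hx hx1 hdv hc => ?_
  have hsF := Cfsg.Agent.S1055.result (F := F) (RowsUntw.exists_ne (by rw [hF]; exact hq))
  have hx' : orderOf (MulAut.congr e x) = p := by
    rw [← hx]
    exact orderOf_injective (MulAut.congr e).toMonoidHom (MulAut.congr e).injective x
  have hex : ∀ y, MulAut.congr e x y = e (x (e.symm y)) := fun _ => rfl
  have hx1' : ¬ ∃ g, MulAut.congr e x = MulAut.conj g := by
    rintro ⟨g, hg⟩
    refine hx1 ⟨e.symm g, MulEquiv.ext fun y => ?_⟩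
    have h2 := DFunLike.congr_fun hg (e y)
    rw [hex, e.symm_apply_apply, MulAut.conj_apply] at h2
    have h3 := congrArg e.symm h2
    rw [e.symm_apply_apply, map_mul, map_mul, map_inv, e.symm_apply_apply] at h3
    rw [MulAut.conj_apply]
    exact h3
  obtain ⟨F₀, h1, h2, h3⟩ := sb_untw (r := r) RowsUntw.g2T inv_G2 one_ne_zero (Nat.coprime_one_left p) symTwo_G2
    (Cfsg.Agent.S1055.result (exists_ne_algClosed _)) hsF hp2 hx' hx1'
  have := Fintype.ofFinite ↥F₀
  have hcard : q = Fintype.card ↥F₀ ^ p := by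
    rw [← hF, ← Nat.card_eq_fintype_card, h1, Nat.card_eq_fintype_card]
  have hsb : ∀ N₀ : Subgroup ↥(chevG2.group ↥F₀), N₀.Characteristic →
        (∀ w, w ∈ Subgroup.centralizer (N₀ : Set ↥(chevG2.group ↥F₀)) → w = 1) → Sb x ↥N₀ := by
    intro N₀ h4 h5
    refine Sb.congr e.symm (x := MulAut.congr e x) (fun y => ?_) (h3 N₀ h4 h5)
    rw [hex, e.symm_apply_apply]
  by_cases h3' : 3 ≤ Fintype.card ↥F₀
  · have hs₀ := Cfsg.Agent.S1055.result (F := ↥F₀) (RowsUntw.exists_ne h3')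
    refine ⟨Fintype.card ↥F₀, ↥(⊤ : Subgroup ↥(chevG2.group ↥F₀)), inferInstance, hcard, ?_, ?_, ?_, ?_⟩
    · have := hs₀.1
      exact (topEquiv (G := ↥(chevG2.group ↥F₀))).isSimpleGroup
    · intro hcm
      refine hs₀.2 ⟨⟨fun a b => topEquiv.symm.injective ?_⟩⟩
      rw [map_mul, map_mul]
      exact hcm.is_comm.comm _ _
    · intro N _ eN
      exact Or.inl ⟨↥F₀, inferInstance, inferInstance, rfl, ⟨eN.trans topEquiv⟩⟩
    · exact hsb ⊤ inferInstance fun w hw => h2 w fun z => (mem_centralizer_iff.1 hw z (mem_top z)).symm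
  · have hE : Fintype.card ↥F₀ = 2 := by
      have := Fintype.one_lt_card (α := ↥F₀)
      omega
    -- the field with nine elements
    have : Fact (Nat.Prime 3) := ⟨Nat.prime_three⟩
    have := Fintype.ofFinite (GaloisField 3 2)
    have hK : Fintype.card (GaloisField 3 2) = 9 := by
      rw [← Nat.card_eq_fintype_card, GaloisField.card 3 2 (by norm_num)]
      norm_num
    obtain ⟨e'⟩ := Cfsg.Agent.S1057.result hE hK
    have hsP := Cfsg.Agent.S0283.result (F := GaloisField 3 2) (q := 3) (by rw [hK]; norm_num) 3 le_rfl (by omega)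
    have hcP := SmallSimple.PSLFacts.card_psu_three_three hK
    have hsM : IsSimpleGroup ↥(commutator ↥(chevG2.group ↥F₀)) := e'.isSimpleGroup
    have hcM : Nat.card ↥(commutator ↥(chevG2.group ↥F₀)) = 6048 := by
      rw [← hcP]; exact Nat.card_congr e'.toEquiv
    have hnaM : ¬ IsMulCommutative ↥(commutator ↥(chevG2.group ↥F₀)) := by
      intro hc
      let _ : CommGroup ↥(commutator ↥(chevG2.group ↥F₀)) :=
        { (inferInstance : Group ↥(commutator ↥(chevG2.group ↥F₀))) with mul_comm := hc.is_comm.comm }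
      have h3 := IsSimpleGroup.prime_card (α := ↥(commutator ↥(chevG2.group ↥F₀)))
      rw [hcM] at h3
      norm_num at h3
    refine ⟨2, ↥(commutator ↥(chevG2.group ↥F₀)), inferInstance, by rw [hcard, hE], hsM, hnaM, ?_, ?_⟩
    · intro N _ eN
      refine Or.inr (Or.inr (Or.inl ⟨rfl, ?_⟩))
      rw [Nat.card_congr eN.toEquiv, hcM]
    · exact hsb _ inferInstance (cent_commutator hsM hnaM h2)

end Cfsg.Agent.H192.Fc
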