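import Cfsg.Agent.H192.U4Tor

/-!
# Toral elementary abelian subgroups of order `p ^ 2`: the exceptional groups, `p = 3`, and `E₈`, `p = 5` (helper192)
-/

set_option autoImplicit false
set_option linter.unusedSectionVars false

namespace Cfsg.Agent.H192.U4

open CoxeterSystem Cfsg Cfsg.Lie Cfsg.Lie.ChevalleyDatum
open Cfsg.Agent.ChevalleyStructure Cfsg.Agent.ChevalleyStructure.Elts Cfsg.Agent.ChevalleyStructure.CoxeterGeom
  Cfsg.Agent.ChevalleyStructure.CoxeterGeomTypes Cfsg.Agent.ChevalleyStructure.NPerm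
open Cfsg.Agent.Tits.Roots Cfsg.Agent.Tits.Core Cfsg.Agent.Nodes Cfsg.Agent.Nodes.Reps Cfsg.Agent.Nodes.BNOf
  Cfsg.Agent.Nodes.RGDChev Cfsg.Agent.Nodes.Bruhat
open Cfsg.Agent.KFacts.RgdField Cfsg.Agent.KFacts.RgdChevCoord Cfsg.Agent.BpExc.TorCent Cfsg.Agent.BpExc.TorChev
open Cfsg.Agent.GpExc.Field Cfsg.Agent.BpExc.Tow Cfsg.Agent.BpExc.TowChev Cfsg.Agent.BpExc.Fr
  Cfsg.Agent.BpExc.LangFr Cfsg.Agent.H795.SetCent Cfsg.Agent.H795.Toral Cfsg.Agent.H795.Core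
  Cfsg.Agent.H129.TorusChar Cfsg.Agent.H795.Untw Cfsg.Agent.H795.RowsA
  Cfsg.Agent.BpExc Cfsg.Agent.H720.TwFr Cfsg.Agent.H800.Sp Cfsg.Agent.H795.NotAbT Cfsg.Agent.H795.NotAbCert
  Cfsg.Agent.H795.NotAbData Cfsg.Agent.BpExc.RowsUntw Cfsg.Agent.H129.WData Cfsg.Agent.H795.NotAbRows

universe u v

variable {D : ChevalleyDatum} {l : ℕ} {M : CoxeterMatrix (Fin l)}

/-- the data: `G` is a normal subgroup of the group of fixed points, the quotient has exponent dividing `dd` -/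
structure Dat (hp : IsType D l M) {k : Type u} [Field k] (r e dd : ℕ) [Fact r.Prime] [CharP k r] {G : Type v} [Group G]
    (f : G →* ↥(D.group k)) (σ : MulAut ↥(D.group k)) (g : (Fin l → ℤ) ≃+ (Fin l → ℤ)) : Prop where
  inj : Function.Injective f
  pos : 0 < e
  frob : IsFrob r e σ
  fr : Fr M.toCoxeterSystem hp.isCartan (TT D k) (XX D l k) σ g
  norm : ∀ y, σ y = y → ∀ x, ∃ x', f x' = y * f x * y⁻¹
  pow : ∀ y, σ y = y → y ^ dd ∈ f.range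

/-- a toral elementary abelian subgroup of order `p ^ 2` -/
def TorP {k : Type u} [Field k] {G : Type v} [Group G] (f : G →* ↥(D.group k)) (p : ℕ) : Prop :=
  ∃ E : Subgroup G, (∀ a ∈ E, a ^ p = 1) ∧ (∀ a ∈ E, ∀ b ∈ E, a * b = b * a) ∧ Nat.card ↥E = p ^ 2 ∧
    ∃ z : ↥(D.group k), ∀ a ∈ E, z * f a * z⁻¹ ∈ TT D k

section

variable {hp : IsType D l M} {k : Type u} [Field k] {r e dd : ℕ} [Fact r.Prime] [CharP k r]
  {σ : MulAut ↥(D.group k)} {g : (Fin l → ℤ) ≃+ (Fin l → ℤ)} [IsAlgClosed k] (hk : LocFin k)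
  {G : Type v} [Group G] {f : G →* ↥(D.group k)} {p : ℕ} [hpp : Fact p.Prime]

theorem Dat.pm (h : Dat hp r e dd f σ g) (hdd : ¬ p ∣ dd) (y : ↥(D.group k)) (hy : σ y = y) (hyp : y ^ p = 1) :
    ∃ x, f x = y :=
  mem_of_pow_mem ((Nat.Prime.coprime_iff_not_dvd hpp.out).2 hdd).symm hyp (h.pow y hy)

include hk in
theorem Dat.cert (h : Dat hp r e dd f σ g) (hdd : ¬ p ∣ dd) (hpr : p ≠ r) {d : ℕ} {B : Fin l → Fin l → ℤ}
    (hB : InvC D l d B) (hd : d ≠ 0) {w : M.Group} {Gm U Th : Mat l} (hg : ∀ j, g (sr j) = Gm j)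
    (hU : IsMat hp w U) {cv dv : Fin l → ℤ} {q0 : ℤ} (hq0 : ((r ^ e : ℕ) : ZMod p) = (q0 : ZMod p))
    (hc : TorOK l p Gm U Th cv dv q0) : TorP f p :=
  toral_of_cert hp hk h.inj h.pos h.frob h.fr (h.pm hdd) hpr hB hd hg hU hq0 hc

/-- the checks -/
def TorN (l p : ℕ) (V₁ V₂ : Mat l) (cv dv : Fin l → ℤ) : Prop :=
  ∃ i j, ¬ (p : ℤ) ∣ (∑ m, V₁ i m * cv m - cv i) * (∑ m, V₂ j m * dv m - dv j) -
    (∑ m, V₁ j m * cv m - cv j) * (∑ m, V₂ i m * dv m - dv i)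

instance decTorN (l p : ℕ) (V₁ V₂ : Mat l) (cv dv : Fin l → ℤ) : Decidable (TorN l p V₁ V₂ cv dv) := by
  unfold TorN; infer_instance

theorem fun_mat {w : M.Group} {V : Mat l} (hV : IsMat hp w V) (cv : Fin l → ℤ) (j : Fin l) :
    fun_ p cv (rep M.toCoxeterSystem hp.isCartan w (sr j)) - fun_ p cv (sr j) =
      ((∑ m, V j m * cv m - cv j : ℤ) : ZMod p) := by
  rw [hV, fun_sr, fun_apply, ← Int.cast_sub]

include hk in
theorem Dat.certN (h : Dat hp r e dd f σ g) (hpr : p ≠ r) {d : ℕ} {B : Fin l → Fin l → ℤ}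
    (hB : InvC D l d B) (hd : d ≠ 0) {w v₁ v₂ : M.Group} {V₁ V₂ : Mat l} (h1 : IsMat hp v₁ V₁) (h2 : IsMat hp v₂ V₂)
    (hv1 : v₁ ^ dd = v₁) (hv2 : v₂ ^ dd = v₂) {ε : ℤ}
    (hε : ∀ x, rep M.toCoxeterSystem hp.isCartan w (g x) = ε • x)
    (hq0 : ((r ^ e : ℕ) : ZMod p) = (ε : ZMod p)) {cv dv : Fin l → ℤ}
    (hc : TorN l p V₁ V₂ cv dv) : TorP f p := by
  have hcm : ∀ (v : M.Group) (x : Fin l → ℤ),
      rep M.toCoxeterSystem hp.isCartan v (rep M.toCoxeterSystem hp.isCartan w (g x)) =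
      rep M.toCoxeterSystem hp.isCartan w (g (rep M.toCoxeterSystem hp.isCartan v x)) := by
    intro v x
    rw [hε, hε, map_zsmul]
  have hei : ∀ (c : (Fin l → ℤ) →+ ZMod p) (x : Fin l → ℤ),
      c (rep M.toCoxeterSystem hp.isCartan w (g x)) = ((r ^ e : ℕ) : ZMod p) * c x := by
    intro c x
    rw [hε, map_zsmul, hq0, zsmul_eq_mul]
  refine toral_of_norm hp hk h.inj h.pos h.frob h.fr h.norm h.pow hpr hB hd w v₁ v₂ ?_ (fun_ p cv) (fun_ p dv)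
    (hei _) (hei _) ?_
  · rintro v (rfl | rfl)
    · exact ⟨hv1, hcm _⟩
    · exact ⟨hv2, hcm _⟩
  · obtain ⟨i, j, hij⟩ := hc
    refine ⟨sr i, sr j, fun h => hij ?_⟩
    rw [fun_mat h1, fun_mat h2, fun_mat h1, fun_mat h2, ← sub_eq_zero, ← Int.cast_mul, ← Int.cast_mul,
      ← Int.cast_sub, ZMod.intCast_zmod_eq_zero_iff_dvd] at h
    exact h

end

section

variable {k : Type u} [Field k] {r e dd : ℕ} [hr : Fact r.Prime] [CharP k r] [IsAlgClosed k] (hk : LocFin k)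
  {G : Type v} [Group G]

include hk

/-- `G₂`, `p = 3` -/
theorem g2_three {f : G →* ↥(chevG2.group k)} {σ : MulAut ↥(chevG2.group k)}
    (h : Dat g2T r e dd f σ (AddEquiv.refl _)) (hdd : ¬ 3 ∣ dd) (hpr : 3 ≠ r) : TorP f 3 := by
  rcases res3 (e := e) hr.out hpr with hq | hq
  · exact h.cert hk hdd hpr invC_G2 one_ne_zero (cv := ![1, 0]) (dv := ![0, 1]) (Th := fun j m => if j = m then 1 else 0)
      refl_mat isMat_one hq (by decide +kernel)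
  · exact h.cert hk hdd hpr invC_G2 one_ne_zero (cv := ![1, 0]) (dv := ![0, 1])
      (Th := fun j m => if j = m then -1 else 0) refl_mat (G2.is_c3 g2T) hq (by decide +kernel)

/-- `F₄`, `p = 3` -/
theorem f4_three {f : G →* ↥(chevF4.group k)} {σ : MulAut ↥(chevF4.group k)}
    (h : Dat f4T r e dd f σ (AddEquiv.refl _)) (hdd : ¬ 3 ∣ dd) (hpr : 3 ≠ r) : TorP f 3 := by
  rcases res3 (e := e) hr.out hpr with hq | hq
  · exact h.cert hk hdd hpr invC_F4 one_ne_zero (cv := ![1, 0, 0, 0]) (dv := ![0, 1, 0, 0])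
      (Th := fun j m => if j = m then 1 else 0) refl_mat isMat_one hq (by decide +kernel)
  · exact h.cert hk hdd hpr invC_F4 one_ne_zero (cv := ![1, 0, 0, 0]) (dv := ![0, 1, 0, 0])
      (Th := fun j m => if j = m then -1 else 0) refl_mat (F4.is_c6 f4T) hq (by decide +kernel)

/-- `E₇`, `p = 3` -/
theorem e7_three {f : G →* ↥(chevE7.group k)} {σ : MulAut ↥(chevE7.group k)}
    (h : Dat e7T r e dd f σ (AddEquiv.refl _)) (hdd : ¬ 3 ∣ dd) (hpr : 3 ≠ r) : TorP f 3 := by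
  rcases res3 (e := e) hr.out hpr with hq | hq
  · exact h.cert hk hdd hpr invC_E7 two_ne_zero (cv := ![1, 0, 0, 0, 0, 0, 0]) (dv := ![0, 1, 0, 0, 0, 0, 0])
      (Th := fun j m => if j = m then 1 else 0) refl_mat isMat_one hq (by decide +kernel)
  · exact h.cert hk hdd hpr invC_E7 two_ne_zero (cv := ![1, 0, 0, 0, 0, 0, 0]) (dv := ![0, 1, 0, 0, 0, 0, 0])
      (Th := fun j m => if j = m then -1 else 0) refl_mat (E7.is_c9 e7T) hq (by decide +kernel)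

/-- `E₈`, `p = 3` -/
theorem e8_three {f : G →* ↥(chevE8.group k)} {σ : MulAut ↥(chevE8.group k)}
    (h : Dat e8T r e dd f σ (AddEquiv.refl _)) (hdd : ¬ 3 ∣ dd) (hpr : 3 ≠ r) : TorP f 3 := by
  rcases res3 (e := e) hr.out hpr with hq | hq
  · exact h.cert hk hdd hpr invC_E8 one_ne_zero (cv := ![1, 0, 0, 0, 0, 0, 0, 0]) (dv := ![0, 1, 0, 0, 0, 0, 0, 0])
      (Th := fun j m => if j = m then 1 else 0) refl_mat isMat_one hq (by decide +kernel)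
  · exact h.cert hk hdd hpr invC_E8 one_ne_zero (cv := ![1, 0, 0, 0, 0, 0, 0, 0]) (dv := ![0, 1, 0, 0, 0, 0, 0, 0])
      (Th := fun j m => if j = m then -1 else 0) refl_mat (E8.is_c15 e8T) hq (by decide +kernel)

/-- `E₈`, `p = 5` -/
theorem e8_five {f : G →* ↥(chevE8.group k)} {σ : MulAut ↥(chevE8.group k)}
    (h : Dat e8T r e dd f σ (AddEquiv.refl _)) (hdd : ¬ 5 ∣ dd) (hpr : 5 ≠ r) : TorP f 5 := by
  rcases res5 (e := e) hr.out hpr with hq | hq | hq | hq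
  · exact h.cert hk hdd hpr invC_E8 one_ne_zero (cv := ![1, 0, 0, 0, 0, 0, 0, 0]) (dv := ![0, 1, 0, 0, 0, 0, 0, 0])
      (Th := fun j m => if j = m then 1 else 0) refl_mat isMat_one hq (by decide +kernel)
  · exact h.cert hk hdd hpr invC_E8 one_ne_zero (cv := ![1, 0, 0, 0, 0, 0, 0, 0]) (dv := ![0, 1, 0, 0, 0, 0, 0, 0])
      (Th := fun j m => if j = m then -1 else 0) refl_mat (E8.is_c15 e8T) hq (by decide +kernel)
  · exact h.cert hk hdd hpr invC_E8 one_ne_zero (cv := ![2, 2, 3, 2, 1, 0, 0, 0]) (dv := ![4, 1, 4, 1, 0, 1, 0, 0])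
      (Th := ![![1, 1, 2, 3, 3, 2, 1, 1], ![0, -1, -1, -2, -2, -1, -1, 0], ![-2, -3, -4, -6, -5, -4, -2, -1],
        ![2, 3, 4, 6, 5, 4, 3, 1], ![-1, 0, -1, -1, -1, -1, -1, 0], ![0, -1, 0, -1, -1, -1, -1, -1],
        ![0, 0, -1, -1, 0, 0, 0, 0], ![-1, -1, -1, -1, -1, 0, 0, 0]])
      refl_mat (E8.is_u5 e8T) hq (by decide +kernel)
  · exact h.cert hk hdd hpr invC_E8 one_ne_zero (cv := ![1, 3, 4, 1, 1, 0, 0, 0]) (dv := ![4, 1, 0, 0, 0, 1, 0, 0])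
      (Th := ![![1, 1, 2, 3, 3, 2, 1, 1], ![0, -1, -1, -2, -2, -1, -1, 0], ![-2, -3, -4, -6, -5, -4, -2, -1],
        ![2, 3, 4, 6, 5, 4, 3, 1], ![-1, 0, -1, -1, -1, -1, -1, 0], ![0, -1, 0, -1, -1, -1, -1, -1],
        ![0, 0, -1, -1, 0, 0, 0, 0], ![-1, -1, -1, -1, -1, 0, 0, 0]])
      refl_mat (E8.is_u5 e8T) hq (by decide +kernel)

/-- `³D₄`, `p = 3` -/
theorem twD4_three {f : G →* ↥(chevD4.group k)} {σ : MulAut ↥(chevD4.group k)}
    (h : Dat hp4 r e dd f σ (permE rho4)) (hdd : ¬ 3 ∣ dd) (hpr : 3 ≠ r) : TorP f 3 := by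
  have hB : InvC chevD4 4 2 ![![2, 2, 1, 1], ![2, 4, 2, 2], ![1, 2, 2, 1], ![1, 2, 1, 2]] := invC_D4
  rcases res3 (e := e) hr.out hpr with hq | hq
  · exact h.cert hk hdd hpr hB two_ne_zero (cv := ![1, 0, 1, 1]) (dv := ![0, 1, 0, 0])
      (Th := ![![0, 0, 1, 0], ![0, 1, 0, 0], ![0, 0, 0, 1], ![1, 0, 0, 0]])
      perm4_mat isMat_one hq (by decide +kernel)
  · exact h.cert hk hdd hpr hB two_ne_zero (cv := ![1, 0, 1, 1]) (dv := ![0, 1, 0, 0])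
      (Th := ![![0, 0, -1, 0], ![0, -1, 0, 0], ![0, 0, 0, -1], ![-1, 0, 0, 0]])
      perm4_mat (D4.is_c3 hp4) hq (by decide +kernel)

omit hk in
theorem pow_dd_of_sq {W : Type*} [Group W] {v : W} (h : v⁻¹ = v) {dd : ℕ} (hdd : dd = 1 ∨ dd = 3) : v ^ dd = v := by
  rcases hdd with rfl | rfl
  · exact pow_one v
  · rw [pow_succ, pow_two]
    nth_rewrite 1 [← h]
    rw [inv_mul_cancel, one_mul]

/-- `E₆`, `p = 3` -/
theorem e6_three {f : G →* ↥(chevE6.group k)} {σ : MulAut ↥(chevE6.group k)}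
    (h : Dat e6T r e dd f σ (AddEquiv.refl _)) (hdd : dd = Nat.gcd 3 (r ^ e - 1)) (hpr : 3 ≠ r) : TorP f 3 := by
  rcases res3 (e := e) hr.out hpr with hq | hq
  · have h3 : dd = 1 ∨ dd = 3 := by
      rw [hdd]
      exact (Nat.dvd_prime Nat.prime_three).1 (Nat.gcd_dvd_left _ _)
    refine h.certN hk hpr invC_E6 three_ne_zero (w := 1) (E6.is_a e6T) (E6.is_b e6T) (pow_dd_of_sq (a_inv e6T) h3)
      (pow_dd_of_sq (b_inv e6T) h3) (ε := 1) (fun x => ?_) hq (cv := ![0, 1, 0, 0, 0, 0])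
      (dv := ![0, 0, 0, 1, 0, 0]) (by decide +kernel)
    rw [map_one, Module.End.one_apply, one_smul]
    rfl
  · have h1 : ¬ 3 ∣ dd := by
      rw [hdd]
      have h1 := mod_of_neg hq
      intro h2
      have h3 := h2.trans (Nat.gcd_dvd_right _ _)
      omega
    exact h.cert hk h1 hpr invC_E6 three_ne_zero (cv := ![1, 2, 1, 0, 0, 0]) (dv := ![0, 1, 0, 1, 0, 0])
      (Th := ![![1, 1, 2, 2, 1, 0], ![0, -1, 0, 0, 0, 0], ![0, 0, -1, 0, 0, 0], ![0, 0, 0, -1, 0, 0],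
        ![0, 0, 0, 0, -1, 0], ![0, 1, 1, 2, 2, 1]]) refl_mat (E6.is_d3 e6T) hq (by decide +kernel)

/-- `²E₆`, `p = 3` -/
theorem twE6_three {f : G →* ↥(chevE6.group k)} {σ : MulAut ↥(chevE6.group k)}
    (h : Dat hp6 r e dd f σ (permE rho6)) (hdd : dd = Nat.gcd 3 (r ^ e + 1)) (hpr : 3 ≠ r) : TorP f 3 := by
  rcases res3 (e := e) hr.out hpr with hq | hq
  · have h1 : ¬ 3 ∣ dd := by
      rw [hdd]
      have h1 := mod_of_one hq
      intro h2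
      have h3 := h2.trans (Nat.gcd_dvd_right _ _)
      omega
    exact h.cert hk h1 hpr invC_E6 three_ne_zero (cv := ![1, 2, 1, 0, 0, 0]) (dv := ![0, 1, 0, 1, 0, 0])
      (Th := ![![-1, -1, -2, -2, -1, 0], ![0, 1, 0, 0, 0, 0], ![0, 0, 1, 0, 0, 0], ![0, 0, 0, 1, 0, 0],
        ![0, 0, 0, 0, 1, 0], ![0, -1, -1, -2, -2, -1]]) perm6_mat (E6.is_w hp6) hq (by decide +kernel)
  · have h3 : dd = 1 ∨ dd = 3 := by
      rw [hdd]
      exact (Nat.dvd_prime Nat.prime_three).1 (Nat.gcd_dvd_left _ _)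
    exact h.certN hk hpr invC_E6 three_ne_zero (E6.is_a hp6) (E6.is_b hp6) (pow_dd_of_sq (a_inv hp6) h3)
      (pow_dd_of_sq (b_inv hp6) h3) (ε := -1)
      (eps_of_mat (hp := hp6) (w := E6.c6) (g := permE rho6) (U := E6.c6M) perm6_mat (E6.is_c6 hp6)
        (by decide +kernel)) hq (cv := ![0, 1, 0, 0, 0, 0])
      (dv := ![0, 0, 0, 1, 0, 0]) (by decide +kernel)

end

end Cfsg.Agent.H192.U4
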