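import Cfsg.Agent.H192.U5Core

/-!
# The certificates for `cent_of_data` (helper192, hub H9)

`cent_g2 .. cent_twD4` : the order of `q` modulo `p` is in the list of the type: an element of order `p` of the group commutes
with `X_θ` and `X_{-θ}`, `θ` the highest root. `cent_e6_three`, `cent_twE6_three` : `p = 3`, for all `dd`.
-/

set_option autoImplicit false
set_option linter.unusedSectionVars false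

namespace Cfsg.Agent.H192.U5

open CoxeterSystem Cfsg Cfsg.Lie Cfsg.Lie.ChevalleyDatum
open Cfsg.Agent.ChevalleyStructure Cfsg.Agent.ChevalleyStructure.Elts Cfsg.Agent.ChevalleyStructure.CoxeterGeom
  Cfsg.Agent.ChevalleyStructure.CoxeterGeomTypes Cfsg.Agent.ChevalleyStructure.NPerm
open Cfsg.Agent.Tits.Roots Cfsg.Agent.Tits.Core Cfsg.Agent.Nodes Cfsg.Agent.Nodes.Reps Cfsg.Agent.Nodes.BNOf
  Cfsg.Agent.Nodes.RGDChev Cfsg.Agent.Nodes.Bruhat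
open Cfsg.Agent.KFacts.RgdField Cfsg.Agent.KFacts.RgdChevCoord Cfsg.Agent.BpExc.TorCent Cfsg.Agent.BpExc.TorChev
open Cfsg.Agent.GpExc.Field Cfsg.Agent.BpExc.Tow Cfsg.Agent.BpExc.TowChev Cfsg.Agent.BpExc.Fr
  Cfsg.Agent.BpExc.LangFr Cfsg.Agent.H795.SetCent Cfsg.Agent.H795.Toral Cfsg.Agent.H795.Core
  Cfsg.Agent.H129.TorusChar Cfsg.Agent.H795.Untw Cfsg.Agent.H795.RowsA
  Cfsg.Agent.BpExc Cfsg.Agent.H720.TwFr Cfsg.Agent.H800.Sp Cfsg.Agent.H795.NotAbT Cfsg.Agent.H795.NotAbCert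
  Cfsg.Agent.H795.NotAbData Cfsg.Agent.BpExc.RowsUntw Cfsg.Agent.H129.WData Cfsg.Agent.H795.NotAbRows
  Cfsg.Agent.H192.U4 Cfsg.Agent.H92.ExcSL2

universe u v

/-! ### cyclotomic relations -/

section Phi

variable {F : Type*} [Field F] {Q : F}

theorem pow_ne_of_orderOf {d i : ℕ} (h : orderOf Q = d) (h0 : 0 < i) (h1 : i < d) : Q ^ i ≠ 1 := fun h2 => by
  have := orderOf_le_of_pow_eq_one h0 h2
  omega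

theorem phi1 (h : orderOf Q = 1) : Q - 1 = 0 := by rw [orderOf_eq_one_iff.1 h, sub_self]

theorem phi2 (h : orderOf Q = 2) : Q + 1 = 0 := by
  have h1 : Q ^ 2 = 1 := by rw [← h]; exact pow_orderOf_eq_one Q
  have h2 := pow_ne_of_orderOf h one_pos (by norm_num)
  rw [pow_one] at h2
  have h3 : (Q - 1) * (Q + 1) = 0 := by linear_combination h1
  exact (mul_eq_zero.1 h3).resolve_left (sub_ne_zero.2 h2)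

theorem phi3 (h : orderOf Q = 3) : Q ^ 2 + Q + 1 = 0 := by
  have h1 : Q ^ 3 = 1 := by rw [← h]; exact pow_orderOf_eq_one Q
  have h2 := pow_ne_of_orderOf h one_pos (by norm_num)
  rw [pow_one] at h2
  have h3 : (Q - 1) * (Q ^ 2 + Q + 1) = 0 := by linear_combination h1
  exact (mul_eq_zero.1 h3).resolve_left (sub_ne_zero.2 h2)

theorem phi4 (h : orderOf Q = 4) : Q ^ 2 + 1 = 0 := by
  have h1 : Q ^ 4 = 1 := by rw [← h]; exact pow_orderOf_eq_one Q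
  have h2 := pow_ne_of_orderOf h (i := 2) (by norm_num) (by norm_num)
  have h3 : (Q ^ 2 - 1) * (Q ^ 2 + 1) = 0 := by linear_combination h1
  exact (mul_eq_zero.1 h3).resolve_left (sub_ne_zero.2 h2)

theorem phi5 (h : orderOf Q = 5) : Q ^ 4 + Q ^ 3 + Q ^ 2 + Q + 1 = 0 := by
  have h1 : Q ^ 5 = 1 := by rw [← h]; exact pow_orderOf_eq_one Q
  have h2 := pow_ne_of_orderOf h one_pos (by norm_num)
  rw [pow_one] at h2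
  have h3 : (Q - 1) * (Q ^ 4 + Q ^ 3 + Q ^ 2 + Q + 1) = 0 := by linear_combination h1
  exact (mul_eq_zero.1 h3).resolve_left (sub_ne_zero.2 h2)

theorem phi6 (h : orderOf Q = 6) : Q ^ 2 - Q + 1 = 0 := by
  have h1 : Q ^ 6 = 1 := by rw [← h]; exact pow_orderOf_eq_one Q
  have h2 := pow_ne_of_orderOf h (i := 3) (by norm_num) (by norm_num)
  have h3 : (Q ^ 3 - 1) * (Q ^ 3 + 1) = 0 := by linear_combination h1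
  have h4 := (mul_eq_zero.1 h3).resolve_left (sub_ne_zero.2 h2)
  have h5 : (Q + 1) * (Q ^ 2 - Q + 1) = 0 := by linear_combination h4
  refine (mul_eq_zero.1 h5).resolve_left fun h6 => ?_
  exact pow_ne_of_orderOf h (i := 2) (by norm_num) (by norm_num) (by linear_combination (Q - 1) * h6)

theorem phi8 (h : orderOf Q = 8) : Q ^ 4 + 1 = 0 := by
  have h1 : Q ^ 8 = 1 := by rw [← h]; exact pow_orderOf_eq_one Q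
  have h2 := pow_ne_of_orderOf h (i := 4) (by norm_num) (by norm_num)
  have h3 : (Q ^ 4 - 1) * (Q ^ 4 + 1) = 0 := by linear_combination h1
  exact (mul_eq_zero.1 h3).resolve_left (sub_ne_zero.2 h2)

theorem phi10 (h : orderOf Q = 10) : Q ^ 4 - Q ^ 3 + Q ^ 2 - Q + 1 = 0 := by
  have h1 : Q ^ 10 = 1 := by rw [← h]; exact pow_orderOf_eq_one Q
  have h2 := pow_ne_of_orderOf h (i := 5) (by norm_num) (by norm_num)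
  have h3 : (Q ^ 5 - 1) * (Q ^ 5 + 1) = 0 := by linear_combination h1
  have h4 := (mul_eq_zero.1 h3).resolve_left (sub_ne_zero.2 h2)
  have h5 : (Q + 1) * (Q ^ 4 - Q ^ 3 + Q ^ 2 - Q + 1) = 0 := by linear_combination h4
  refine (mul_eq_zero.1 h5).resolve_left fun h6 => ?_
  exact pow_ne_of_orderOf h (i := 2) (by norm_num) (by norm_num) (by linear_combination (Q - 1) * h6)

theorem phi12 (h : orderOf Q = 12) : Q ^ 4 - Q ^ 2 + 1 = 0 := by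
  have h1 : Q ^ 12 = 1 := by rw [← h]; exact pow_orderOf_eq_one Q
  have h2 := pow_ne_of_orderOf h (i := 6) (by norm_num) (by norm_num)
  have h3 : (Q ^ 6 - 1) * (Q ^ 6 + 1) = 0 := by linear_combination h1
  have h4 := (mul_eq_zero.1 h3).resolve_left (sub_ne_zero.2 h2)
  have h5 : (Q ^ 2 + 1) * (Q ^ 4 - Q ^ 2 + 1) = 0 := by linear_combination h4
  refine (mul_eq_zero.1 h5).resolve_left fun h6 => ?_
  exact pow_ne_of_orderOf h (i := 4) (by norm_num) (by norm_num) (by linear_combination (Q ^ 2 - 1) * h6)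

end Phi

/-! ### the checks -/

/-- the checks -/
def CentOK {l φ : ℕ} (A : Mat l) (J : List (Fin l)) (cL : List (Fin l × Mat l)) (Gm Th : Mat l)
    (C : Fin l → Fin φ → ℤ) (K : Fin φ → Fin φ → ℤ) (x th : Fin l → ℤ) : Prop :=
  ChainOK A cL ∧ (∀ j ∈ cL.map Prod.fst, j ∈ J) ∧ (∀ j m, ∑ n, Gm j n * hd cL n m = Th j m) ∧
    (∀ j i, ∑ m, Th j m * C m i = ∑ i', C j i' * K i' i) ∧ (∀ i, ∑ m, th m * C m i = 0) ∧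
    (∀ i, ∑ m, x m * C m i = if (i : ℕ) = 0 then 1 else 0)

instance decCentOK {l φ : ℕ} (A : Mat l) (J : List (Fin l)) (cL : List (Fin l × Mat l)) (Gm Th : Mat l)
    (C : Fin l → Fin φ → ℤ) (K : Fin φ → Fin φ → ℤ) (x th : Fin l → ℤ) :
    Decidable (CentOK A J cL Gm Th C K x th) := by
  unfold CentOK; infer_instance

/-- the functional -/
def funC {l φ : ℕ} (p : ℕ) (Q : ZMod p) (C : Fin l → Fin φ → ℤ) : (Fin l → ℤ) →+ ZMod p where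
  toFun x := ∑ i : Fin φ, ((∑ m, x m * C m i : ℤ) : ZMod p) * Q ^ (i : ℕ)
  map_zero' := by simp
  map_add' x y := by
    rw [← Finset.sum_add_distrib]
    refine Finset.sum_congr rfl fun i _ => ?_
    rw [← add_mul, ← Int.cast_add, ← Finset.sum_add_distrib]
    congr 2
    exact Finset.sum_congr rfl fun m _ => by rw [Pi.add_apply, add_mul]

theorem funC_apply {l φ : ℕ} (p : ℕ) (Q : ZMod p) (C : Fin l → Fin φ → ℤ) (x : Fin l → ℤ) :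
    funC p Q C x = ∑ i : Fin φ, ((∑ m, x m * C m i : ℤ) : ZMod p) * Q ^ (i : ℕ) := rfl

theorem funC_sr {l φ : ℕ} (p : ℕ) (Q : ZMod p) (C : Fin l → Fin φ → ℤ) (j : Fin l) :
    funC p Q C (sr j) = ∑ i : Fin φ, (C j i : ZMod p) * Q ^ (i : ℕ) := by
  rw [funC_apply]
  refine Finset.sum_congr rfl fun i _ => ?_
  congr 2
  simp only [sr_apply']
  simp

section

variable {D : ChevalleyDatum} {l : ℕ} {M : CoxeterMatrix (Fin l)} {hp : IsType D l M} {k : Type u} [Field k]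
  {r e dd : ℕ} [Fact r.Prime] [CharP k r]
  {σ : MulAut ↥(D.group k)} {g : (Fin l → ℤ) ≃+ (Fin l → ℤ)} [IsAlgClosed k] (hk : LocFin k)
  {G : Type v} [Group G] {f : G →* ↥(D.group k)} {p : ℕ} [hpp : Fact p.Prime]

include hk in
theorem cent_of_cert (h : Dat hp r e dd f σ g) (hdd : ¬ p ∣ dd) (hpr : p ≠ r) {d : ℕ} {B : Fin l → Fin l → ℤ}
    (hB : InvC D l d B) (hd : d ≠ 0) {A : Mat l} (hA : ∀ i j, A i j = cartanOf D l i j) {J : List (Fin l)}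
    (hJ : ∀ j ∈ J, ∃ j' ∈ J, g (sr j) = sr j') {θ : ℕ} (hθ : θ < D.nroots) (ho : orthJ D J θ = true)
    {th : Fin l → ℤ} (hth : ∀ i, vec D l θ i = th i) {Gm : Mat l} (hg : ∀ j, g (sr j) = Gm j)
    {φ : ℕ} {K : Fin φ → Fin φ → ℤ}
    (hK : ∀ i' : Fin φ, ((r ^ e : ℕ) : ZMod p) * ((r ^ e : ℕ) : ZMod p) ^ (i' : ℕ) =
      ∑ i : Fin φ, (K i' i : ZMod p) * ((r ^ e : ℕ) : ZMod p) ^ (i : ℕ)) (hφ : 0 < φ)
    (cL : List (Fin l × Mat l)) (Th : Mat l) (C : Fin l → Fin φ → ℤ) (x : Fin l → ℤ)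
    (hc : CentOK A J cL Gm Th C K x th) : CentP D l f p θ := by
  obtain ⟨h1, h2, h3, h4, h5, h6⟩ := hc
  obtain ⟨Q, hQ⟩ : ∃ Q, Q = ((r ^ e : ℕ) : ZMod p) := ⟨_, rfl⟩
  rw [← hQ] at hK
  refine cent_of_data hk h hdd hpr hB hd (J := J) (L := cL.map Prod.fst) hJ h2 hθ ho (funC p Q C) ?_ ?_ ?_
  · have hTh := theta_mat (hp := hp) hg (isMat_chain hp hA h1) h3
    let θ' : (Fin l → ℤ) →+ (Fin l → ℤ) :=
      (rep M.toCoxeterSystem hp.isCartan (M.toCoxeterSystem.wordProd (cL.map Prod.fst))).toAddMonoidHom.comp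
        g.toAddMonoidHom
    intro y
    rw [← hQ]
    refine addHom_ext (f := (funC p Q C).comp θ') (f' := (AddMonoidHom.mulLeft Q).comp (funC p Q C)) (fun j => ?_) y
    show funC p Q C (rep M.toCoxeterSystem hp.isCartan (M.toCoxeterSystem.wordProd (cL.map Prod.fst)) (g (sr j))) =
      Q * funC p Q C (sr j)
    rw [hTh, funC_sr, funC_apply, Finset.mul_sum]
    have e1 : ∀ i : Fin φ, ((∑ m, Th j m * C m i : ℤ) : ZMod p) * Q ^ (i : ℕ) =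
        ∑ i' : Fin φ, (C j i' : ZMod p) * ((K i' i : ZMod p) * Q ^ (i : ℕ)) := by
      intro i
      rw [h4, Int.cast_sum, Finset.sum_mul]
      refine Finset.sum_congr rfl fun i' _ => ?_
      rw [Int.cast_mul, mul_assoc]
    rw [Finset.sum_congr rfl fun i _ => e1 i, Finset.sum_comm]
    refine Finset.sum_congr rfl fun i' _ => ?_
    rw [← Finset.mul_sum, ← hK]
    ring
  · rw [funC_apply]
    refine Finset.sum_eq_zero fun i _ => ?_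
    have h7 : ∑ m, vec D l θ m * C m i = 0 := by
      rw [← h5 i]
      exact Finset.sum_congr rfl fun m _ => by rw [hth]
    rw [h7, Int.cast_zero, zero_mul]
  · intro h0
    have h7 := DFunLike.congr_fun h0 x
    rw [funC_apply, AddMonoidHom.zero_apply] at h7
    have h8 : ∀ i : Fin φ, ((∑ m, x m * C m i : ℤ) : ZMod p) * Q ^ (i : ℕ) = if i = ⟨0, hφ⟩ then 1 else 0 := by
      intro i
      rw [h6]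
      by_cases hi : (i : ℕ) = 0
      · have hi' : i = ⟨0, hφ⟩ := Fin.ext hi
        rw [if_pos hi, if_pos hi', hi, pow_zero, mul_one, Int.cast_one]
      · rw [if_neg hi, if_neg (fun h => hi (congrArg Fin.val h)), Int.cast_zero, zero_mul]
    rw [Finset.sum_congr rfl fun i _ => h8 i, Finset.sum_ite_eq' Finset.univ, if_pos (Finset.mem_univ _)] at h7
    exact one_ne_zero h7

end

/-! ### companion matrices -/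

/-- multiplication by a primitive root of order `1` -/
def K1 : Fin 1 → Fin 1 → ℤ := ![![1]]

theorem hK1 {p : ℕ} [Fact p.Prime] {Q : ZMod p} (h : orderOf Q = 1) : ∀ i' : Fin 1, Q * Q ^ (i' : ℕ) =
    ∑ i : Fin 1, ((K1 i' i : ℤ) : ZMod p) * Q ^ (i : ℕ) := by
  have h1 := phi1 h
  intro i'
  fin_cases i'
  simp [K1]
  linear_combination h1

/-- multiplication by a primitive root of order `2` -/
def K2 : Fin 1 → Fin 1 → ℤ := ![![-1]]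

theorem hK2 {p : ℕ} [Fact p.Prime] {Q : ZMod p} (h : orderOf Q = 2) : ∀ i' : Fin 1, Q * Q ^ (i' : ℕ) =
    ∑ i : Fin 1, ((K2 i' i : ℤ) : ZMod p) * Q ^ (i : ℕ) := by
  have h1 := phi2 h
  intro i'
  fin_cases i'
  simp [K2]
  linear_combination h1

/-- multiplication by a primitive root of order `3` -/
def K3 : Fin 2 → Fin 2 → ℤ := ![![0, 1], ![-1, -1]]

theorem hK3 {p : ℕ} [Fact p.Prime] {Q : ZMod p} (h : orderOf Q = 3) : ∀ i' : Fin 2, Q * Q ^ (i' : ℕ) =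
    ∑ i : Fin 2, ((K3 i' i : ℤ) : ZMod p) * Q ^ (i : ℕ) := by
  have h1 := phi3 h
  intro i'
  fin_cases i'
  · simp [K3, Fin.sum_univ_succ]
  · simp [K3, Fin.sum_univ_succ]
    linear_combination h1

/-- multiplication by a primitive root of order `4` -/
def K4 : Fin 2 → Fin 2 → ℤ := ![![0, 1], ![-1, 0]]

theorem hK4 {p : ℕ} [Fact p.Prime] {Q : ZMod p} (h : orderOf Q = 4) : ∀ i' : Fin 2, Q * Q ^ (i' : ℕ) =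
    ∑ i : Fin 2, ((K4 i' i : ℤ) : ZMod p) * Q ^ (i : ℕ) := by
  have h1 := phi4 h
  intro i'
  fin_cases i'
  · simp [K4, Fin.sum_univ_succ]
  · simp [K4, Fin.sum_univ_succ]
    linear_combination h1

/-- multiplication by a primitive root of order `5` -/
def K5 : Fin 4 → Fin 4 → ℤ := ![![0, 1, 0, 0], ![0, 0, 1, 0], ![0, 0, 0, 1], ![-1, -1, -1, -1]]

theorem hK5 {p : ℕ} [Fact p.Prime] {Q : ZMod p} (h : orderOf Q = 5) : ∀ i' : Fin 4, Q * Q ^ (i' : ℕ) =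
    ∑ i : Fin 4, ((K5 i' i : ℤ) : ZMod p) * Q ^ (i : ℕ) := by
  have h1 := phi5 h
  intro i'
  fin_cases i'
  · simp [K5, Fin.sum_univ_succ]
  · simp [K5, Fin.sum_univ_succ]
    ring
  · simp [K5, Fin.sum_univ_succ]
    ring
  · simp [K5, Fin.sum_univ_succ]
    linear_combination h1

/-- multiplication by a primitive root of order `6` -/
def K6 : Fin 2 → Fin 2 → ℤ := ![![0, 1], ![-1, 1]]

theorem hK6 {p : ℕ} [Fact p.Prime] {Q : ZMod p} (h : orderOf Q = 6) : ∀ i' : Fin 2, Q * Q ^ (i' : ℕ) =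
    ∑ i : Fin 2, ((K6 i' i : ℤ) : ZMod p) * Q ^ (i : ℕ) := by
  have h1 := phi6 h
  intro i'
  fin_cases i'
  · simp [K6, Fin.sum_univ_succ]
  · simp [K6, Fin.sum_univ_succ]
    linear_combination h1

/-- multiplication by a primitive root of order `8` -/
def K8 : Fin 4 → Fin 4 → ℤ := ![![0, 1, 0, 0], ![0, 0, 1, 0], ![0, 0, 0, 1], ![-1, 0, 0, 0]]

theorem hK8 {p : ℕ} [Fact p.Prime] {Q : ZMod p} (h : orderOf Q = 8) : ∀ i' : Fin 4, Q * Q ^ (i' : ℕ) =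
    ∑ i : Fin 4, ((K8 i' i : ℤ) : ZMod p) * Q ^ (i : ℕ) := by
  have h1 := phi8 h
  intro i'
  fin_cases i'
  · simp [K8, Fin.sum_univ_succ]
  · simp [K8, Fin.sum_univ_succ]
    ring
  · simp [K8, Fin.sum_univ_succ]
    ring
  · simp [K8, Fin.sum_univ_succ]
    linear_combination h1

/-- multiplication by a primitive root of order `10` -/
def K10 : Fin 4 → Fin 4 → ℤ := ![![0, 1, 0, 0], ![0, 0, 1, 0], ![0, 0, 0, 1], ![-1, 1, -1, 1]]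

theorem hK10 {p : ℕ} [Fact p.Prime] {Q : ZMod p} (h : orderOf Q = 10) : ∀ i' : Fin 4, Q * Q ^ (i' : ℕ) =
    ∑ i : Fin 4, ((K10 i' i : ℤ) : ZMod p) * Q ^ (i : ℕ) := by
  have h1 := phi10 h
  intro i'
  fin_cases i'
  · simp [K10, Fin.sum_univ_succ]
  · simp [K10, Fin.sum_univ_succ]
    ring
  · simp [K10, Fin.sum_univ_succ]
    ring
  · simp [K10, Fin.sum_univ_succ]
    linear_combination h1

/-- multiplication by a primitive root of order `12` -/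
def K12 : Fin 4 → Fin 4 → ℤ := ![![0, 1, 0, 0], ![0, 0, 1, 0], ![0, 0, 0, 1], ![-1, 0, 1, 0]]

theorem hK12 {p : ℕ} [Fact p.Prime] {Q : ZMod p} (h : orderOf Q = 12) : ∀ i' : Fin 4, Q * Q ^ (i' : ℕ) =
    ∑ i : Fin 4, ((K12 i' i : ℤ) : ZMod p) * Q ^ (i : ℕ) := by
  have h1 := phi12 h
  intro i'
  fin_cases i'
  · simp [K12, Fin.sum_univ_succ]
  · simp [K12, Fin.sum_univ_succ]
    ring
  · simp [K12, Fin.sum_univ_succ]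
    ring
  · simp [K12, Fin.sum_univ_succ]
    linear_combination h1

section

variable {k : Type u} [Field k] {r e dd : ℕ} [hr : Fact r.Prime] [CharP k r] [IsAlgClosed k] (hk : LocFin k)
  {G : Type v} [Group G] {p : ℕ} [hpp : Fact p.Prime]

omit hr in
theorem thG2 : ∀ i, vec chevG2 2 11 i = (![3, 2] : Fin 2 → ℤ) i := by decide +kernel

omit hr in
theorem orthG2 : orthJ chevG2 ([0] : List (Fin 2)) 11 = true := by decide +kernel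

include hk in
/-- the highest root group of `g2` -/
theorem cent_g2 {f : G →* ↥(chevG2.group k)} {σ : MulAut ↥(chevG2.group k)}
    (h : Dat g2T r e dd f σ (AddEquiv.refl _)) (hdd : ¬ p ∣ dd) (hpr : p ≠ r)
    (ho : orderOf ((r ^ e : ℕ) : ZMod p) = 1 ∨ orderOf ((r ^ e : ℕ) : ZMod p) = 2) : CentP chevG2 2 f p 11 := by
  have hJ : ∀ j ∈ ([0] : List (Fin 2)), ∃ j' ∈ ([0] : List (Fin 2)),
      (AddEquiv.refl (Fin 2 → ℤ)) (sr j) = sr j' := fun j hj => ⟨j, hj, rfl⟩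
  rcases ho with ho | ho
  · exact cent_of_cert hk h hdd hpr invC_G2 one_ne_zero G2.hA hJ (by decide) orthG2 thG2 refl_mat (hK1 ho) (by norm_num)
      []
      ![![1, 0], ![0, 1]]
      ![![2], ![-3]]
      ![2, 1] (by decide +kernel)
  · exact cent_of_cert hk h hdd hpr invC_G2 one_ne_zero G2.hA hJ (by decide) orthG2 thG2 refl_mat (hK2 ho) (by norm_num)
      [(0, ![![-1, 0], ![3, 1]])]
      ![![-1, 0], ![3, 1]]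
      ![![2], ![-3]]
      ![2, 1] (by decide +kernel)

omit hr in
theorem thF4 : ∀ i, vec chevF4 4 47 i = (![2, 4, 3, 2] : Fin 4 → ℤ) i := by decide +kernel

omit hr in
theorem orthF4 : orthJ chevF4 ([0, 1, 2] : List (Fin 4)) 47 = true := by decide +kernel

include hk in
/-- the highest root group of `f4` -/
theorem cent_f4 {f : G →* ↥(chevF4.group k)} {σ : MulAut ↥(chevF4.group k)}
    (h : Dat f4T r e dd f σ (AddEquiv.refl _)) (hdd : ¬ p ∣ dd) (hpr : p ≠ r)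
    (ho : orderOf ((r ^ e : ℕ) : ZMod p) = 1 ∨ orderOf ((r ^ e : ℕ) : ZMod p) = 2 ∨ orderOf ((r ^ e : ℕ) : ZMod p) = 3 ∨ orderOf ((r ^ e : ℕ) : ZMod p) = 4 ∨ orderOf ((r ^ e : ℕ) : ZMod p) = 6) : CentP chevF4 4 f p 47 := by
  have hJ : ∀ j ∈ ([0, 1, 2] : List (Fin 4)), ∃ j' ∈ ([0, 1, 2] : List (Fin 4)),
      (AddEquiv.refl (Fin 4 → ℤ)) (sr j) = sr j' := fun j hj => ⟨j, hj, rfl⟩
  rcases ho with ho | ho | ho | ho | ho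
  · exact cent_of_cert hk h hdd hpr invC_F4 one_ne_zero F4.hA hJ (by decide) orthF4 thF4 refl_mat (hK1 ho) (by norm_num)
      []
      ![![1, 0, 0, 0], ![0, 1, 0, 0], ![0, 0, 1, 0], ![0, 0, 0, 1]]
      ![![1], ![0], ![0], ![-1]]
      ![1, 0, 0, 0] (by decide +kernel)
  · exact cent_of_cert hk h hdd hpr invC_F4 one_ne_zero F4.hA hJ (by decide) orthF4 thF4 refl_mat (hK2 ho) (by norm_num)
      [(0, ![![-1, 0, 0, 0], ![1, 1, 0, 0], ![0, 0, 1, 0], ![0, 0, 0, 1]])]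
      ![![-1, 0, 0, 0], ![1, 1, 0, 0], ![0, 0, 1, 0], ![0, 0, 0, 1]]
      ![![2], ![-1], ![0], ![0]]
      ![0, -1, 0, 0] (by decide +kernel)
  · exact cent_of_cert hk h hdd hpr invC_F4 one_ne_zero F4.hA hJ (by decide) orthF4 thF4 refl_mat (hK3 ho) (by norm_num)
      [(0, ![![0, 1, 0, 0], ![-1, -1, 0, 0], ![2, 2, 1, 0], ![0, 0, 0, 1]]),
        (1, ![![1, 1, 0, 0], ![0, -1, 0, 0], ![0, 2, 1, 0], ![0, 0, 0, 1]])]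
      ![![0, 1, 0, 0], ![-1, -1, 0, 0], ![2, 2, 1, 0], ![0, 0, 0, 1]]
      ![![-2, -1], ![1, -1], ![0, 2], ![0, 0]]
      ![1, 3, 2, 0] (by decide +kernel)
  · exact cent_of_cert hk h hdd hpr invC_F4 one_ne_zero F4.hA hJ (by decide) orthF4 thF4 refl_mat (hK4 ho) (by norm_num)
      [(1, ![![1, 1, 0, 0], ![0, 1, 1, 0], ![0, -2, -1, 0], ![0, 2, 1, 1]]),
        (2, ![![1, 0, 0, 0], ![0, 1, 1, 0], ![0, 0, -1, 0], ![0, 0, 1, 1]])]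
      ![![1, 1, 0, 0], ![0, 1, 1, 0], ![0, -2, -1, 0], ![0, 2, 1, 1]]
      ![![0, -1], ![1, 1], ![-2, 0], ![1, -1]]
      ![1, 1, 0, 0] (by decide +kernel)
  · exact cent_of_cert hk h hdd hpr invC_F4 one_ne_zero F4.hA hJ (by decide) orthF4 thF4 refl_mat (hK6 ho) (by norm_num)
      [(0, ![![0, 1, 0, 0], ![1, 1, 1, 0], ![-2, -2, -1, 0], ![2, 2, 1, 1]]),
        (1, ![![1, 1, 0, 0], ![0, 1, 1, 0], ![0, -2, -1, 0], ![0, 2, 1, 1]]),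
        (2, ![![1, 0, 0, 0], ![0, 1, 1, 0], ![0, 0, -1, 0], ![0, 0, 1, 1]])]
      ![![0, 1, 0, 0], ![1, 1, 1, 0], ![-2, -2, -1, 0], ![2, 2, 1, 1]]
      ![![0, 1], ![-1, 1], ![0, -2], ![2, 0]]
      ![1, -1, 0, 0] (by decide +kernel)

omit hr in
theorem thE6 : ∀ i, vec chevE6 6 71 i = (![1, 2, 2, 3, 2, 1] : Fin 6 → ℤ) i := by decide +kernel

omit hr in
theorem orthE6 : orthJ chevE6 ([0, 2, 3, 4, 5] : List (Fin 6)) 71 = true := by decide +kernel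

include hk in
/-- the highest root group of `e6` -/
theorem cent_e6 {f : G →* ↥(chevE6.group k)} {σ : MulAut ↥(chevE6.group k)}
    (h : Dat e6T r e dd f σ (AddEquiv.refl _)) (hdd : ¬ p ∣ dd) (hpr : p ≠ r)
    (ho : orderOf ((r ^ e : ℕ) : ZMod p) = 1 ∨ orderOf ((r ^ e : ℕ) : ZMod p) = 2 ∨ orderOf ((r ^ e : ℕ) : ZMod p) = 3 ∨ orderOf ((r ^ e : ℕ) : ZMod p) = 4 ∨ orderOf ((r ^ e : ℕ) : ZMod p) = 6) : CentP chevE6 6 f p 71 := by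
  have hJ : ∀ j ∈ ([0, 2, 3, 4, 5] : List (Fin 6)), ∃ j' ∈ ([0, 2, 3, 4, 5] : List (Fin 6)),
      (AddEquiv.refl (Fin 6 → ℤ)) (sr j) = sr j' := fun j hj => ⟨j, hj, rfl⟩
  rcases ho with ho | ho | ho | ho | ho
  · exact cent_of_cert hk h hdd hpr invC_E6 three_ne_zero E6.hA hJ (by decide) orthE6 thE6 refl_mat (hK1 ho) (by norm_num)
      []
      ![![1, 0, 0, 0, 0, 0], ![0, 1, 0, 0, 0, 0], ![0, 0, 1, 0, 0, 0], ![0, 0, 0, 1, 0, 0], ![0, 0, 0, 0, 1, 0], ![0, 0, 0, 0, 0, 1]]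
      ![![0], ![-1], ![0], ![0], ![1], ![0]]
      ![0, -1, 0, 0, 0, 0] (by decide +kernel)
  · exact cent_of_cert hk h hdd hpr invC_E6 three_ne_zero E6.hA hJ (by decide) orthE6 thE6 refl_mat (hK2 ho) (by norm_num)
      [(0, ![![-1, 0, 0, 0, 0, 0], ![0, 1, 0, 0, 0, 0], ![1, 0, 1, 0, 0, 0], ![0, 0, 0, 1, 0, 0], ![0, 0, 0, 0, 1, 0], ![0, 0, 0, 0, 0, 1]])]
      ![![-1, 0, 0, 0, 0, 0], ![0, 1, 0, 0, 0, 0], ![1, 0, 1, 0, 0, 0], ![0, 0, 0, 1, 0, 0], ![0, 0, 0, 0, 1, 0], ![0, 0, 0, 0, 0, 1]]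
      ![![2], ![0], ![-1], ![0], ![0], ![0]]
      ![0, 0, -1, 0, 0, 0] (by decide +kernel)
  · exact cent_of_cert hk h hdd hpr invC_E6 three_ne_zero E6.hA hJ (by decide) orthE6 thE6 refl_mat (hK3 ho) (by norm_num)
      [(0, ![![0, 0, 1, 0, 0, 0], ![0, 1, 0, 0, 0, 0], ![-1, 0, -1, 0, 0, 0], ![1, 0, 1, 1, 0, 0], ![0, 0, 0, 0, 1, 0], ![0, 0, 0, 0, 0, 1]]),
        (2, ![![1, 0, 1, 0, 0, 0], ![0, 1, 0, 0, 0, 0], ![0, 0, -1, 0, 0, 0], ![0, 0, 1, 1, 0, 0], ![0, 0, 0, 0, 1, 0], ![0, 0, 0, 0, 0, 1]])]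
      ![![0, 0, 1, 0, 0, 0], ![0, 1, 0, 0, 0, 0], ![-1, 0, -1, 0, 0, 0], ![1, 0, 1, 1, 0, 0], ![0, 0, 0, 0, 1, 0], ![0, 0, 0, 0, 0, 1]]
      ![![2, 1], ![0, 0], ![-1, 1], ![0, -1], ![0, 0], ![0, 0]]
      ![0, 0, -1, -1, 0, 0] (by decide +kernel)
  · exact cent_of_cert hk h hdd hpr invC_E6 three_ne_zero E6.hA hJ (by decide) orthE6 thE6 refl_mat (hK4 ho) (by norm_num)
      [(0, ![![0, 0, 1, 0, 0, 0], ![1, 1, 1, 1, 0, 0], ![0, 0, 0, 1, 0, 0], ![-1, 0, -1, -1, 0, 0], ![1, 0, 1, 1, 1, 0], ![0, 0, 0, 0, 0, 1]]),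
        (2, ![![1, 0, 1, 0, 0, 0], ![0, 1, 1, 1, 0, 0], ![0, 0, 0, 1, 0, 0], ![0, 0, -1, -1, 0, 0], ![0, 0, 1, 1, 1, 0], ![0, 0, 0, 0, 0, 1]]),
        (3, ![![1, 0, 0, 0, 0, 0], ![0, 1, 0, 1, 0, 0], ![0, 0, 1, 1, 0, 0], ![0, 0, 0, -1, 0, 0], ![0, 0, 0, 1, 1, 0], ![0, 0, 0, 0, 0, 1]])]
      ![![0, 0, 1, 0, 0, 0], ![1, 1, 1, 1, 0, 0], ![0, 0, 0, 1, 0, 0], ![-1, 0, -1, -1, 0, 0], ![1, 0, 1, 1, 1, 0], ![0, 0, 0, 0, 0, 1]]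
      ![![-1, -1], ![-1, 0], ![1, -1], ![1, 1], ![-1, 0], ![0, 0]]
      ![0, -1, 0, 0, 0, 0] (by decide +kernel)
  · exact cent_of_cert hk h hdd hpr invC_E6 three_ne_zero E6.hA hJ (by decide) orthE6 thE6 refl_mat (hK6 ho) (by norm_num)
      [(0, ![![0, 0, 1, 0, 0, 0], ![1, 1, 1, 1, 0, 0], ![0, 0, 0, 1, 0, 0], ![0, 0, 0, 0, 1, 0], ![0, 0, 0, 0, 0, 1], ![-1, 0, -1, -1, -1, -1]]),
        (2, ![![1, 0, 1, 0, 0, 0], ![0, 1, 1, 1, 0, 0], ![0, 0, 0, 1, 0, 0], ![0, 0, 0, 0, 1, 0], ![0, 0, 0, 0, 0, 1], ![0, 0, -1, -1, -1, -1]]),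
        (3, ![![1, 0, 0, 0, 0, 0], ![0, 1, 0, 1, 0, 0], ![0, 0, 1, 1, 0, 0], ![0, 0, 0, 0, 1, 0], ![0, 0, 0, 0, 0, 1], ![0, 0, 0, -1, -1, -1]]),
        (4, ![![1, 0, 0, 0, 0, 0], ![0, 1, 0, 0, 0, 0], ![0, 0, 1, 0, 0, 0], ![0, 0, 0, 1, 1, 0], ![0, 0, 0, 0, 0, 1], ![0, 0, 0, 0, -1, -1]]),
        (5, ![![1, 0, 0, 0, 0, 0], ![0, 1, 0, 0, 0, 0], ![0, 0, 1, 0, 0, 0], ![0, 0, 0, 1, 0, 0], ![0, 0, 0, 0, 1, 1], ![0, 0, 0, 0, 0, -1]])]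
      ![![0, 0, 1, 0, 0, 0], ![1, 1, 1, 1, 0, 0], ![0, 0, 0, 1, 0, 0], ![0, 0, 0, 0, 1, 0], ![0, 0, 0, 0, 0, 1], ![-1, 0, -1, -1, -1, -1]]
      ![![1, -1], ![0, -2], ![1, 0], ![0, 1], ![-1, 1], ![-1, 0]]
      ![0, 0, 1, 0, 0, 0] (by decide +kernel)

omit hr in
theorem thE7 : ∀ i, vec chevE7 7 125 i = (![2, 2, 3, 4, 3, 2, 1] : Fin 7 → ℤ) i := by decide +kernel

omit hr in
theorem orthE7 : orthJ chevE7 ([1, 2, 3, 4, 5, 6] : List (Fin 7)) 125 = true := by decide +kernel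

include hk in
/-- the highest root group of `e7` -/
theorem cent_e7 {f : G →* ↥(chevE7.group k)} {σ : MulAut ↥(chevE7.group k)}
    (h : Dat e7T r e dd f σ (AddEquiv.refl _)) (hdd : ¬ p ∣ dd) (hpr : p ≠ r)
    (ho : orderOf ((r ^ e : ℕ) : ZMod p) = 1 ∨ orderOf ((r ^ e : ℕ) : ZMod p) = 2 ∨ orderOf ((r ^ e : ℕ) : ZMod p) = 3 ∨ orderOf ((r ^ e : ℕ) : ZMod p) = 4 ∨ orderOf ((r ^ e : ℕ) : ZMod p) = 6) : CentP chevE7 7 f p 125 := by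
  have hJ : ∀ j ∈ ([1, 2, 3, 4, 5, 6] : List (Fin 7)), ∃ j' ∈ ([1, 2, 3, 4, 5, 6] : List (Fin 7)),
      (AddEquiv.refl (Fin 7 → ℤ)) (sr j) = sr j' := fun j hj => ⟨j, hj, rfl⟩
  rcases ho with ho | ho | ho | ho | ho
  · exact cent_of_cert hk h hdd hpr invC_E7 two_ne_zero E7.hA hJ (by decide) orthE7 thE7 refl_mat (hK1 ho) (by norm_num)
      []
      ![![1, 0, 0, 0, 0, 0, 0], ![0, 1, 0, 0, 0, 0, 0], ![0, 0, 1, 0, 0, 0, 0], ![0, 0, 0, 1, 0, 0, 0], ![0, 0, 0, 0, 1, 0, 0], ![0, 0, 0, 0, 0, 1, 0], ![0, 0, 0, 0, 0, 0, 1]]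
      ![![1], ![-1], ![0], ![0], ![0], ![0], ![0]]
      ![1, 0, 0, 0, 0, 0, 0] (by decide +kernel)
  · exact cent_of_cert hk h hdd hpr invC_E7 two_ne_zero E7.hA hJ (by decide) orthE7 thE7 refl_mat (hK2 ho) (by norm_num)
      [(1, ![![1, 0, 0, 0, 0, 0, 0], ![0, -1, 0, 0, 0, 0, 0], ![0, 0, 1, 0, 0, 0, 0], ![0, 1, 0, 1, 0, 0, 0], ![0, 0, 0, 0, 1, 0, 0], ![0, 0, 0, 0, 0, 1, 0], ![0, 0, 0, 0, 0, 0, 1]])]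
      ![![1, 0, 0, 0, 0, 0, 0], ![0, -1, 0, 0, 0, 0, 0], ![0, 0, 1, 0, 0, 0, 0], ![0, 1, 0, 1, 0, 0, 0], ![0, 0, 0, 0, 1, 0, 0], ![0, 0, 0, 0, 0, 1, 0], ![0, 0, 0, 0, 0, 0, 1]]
      ![![0], ![2], ![0], ![-1], ![0], ![0], ![0]]
      ![0, 0, 0, -1, 0, 0, 0] (by decide +kernel)
  · exact cent_of_cert hk h hdd hpr invC_E7 two_ne_zero E7.hA hJ (by decide) orthE7 thE7 refl_mat (hK3 ho) (by norm_num)
      [(5, ![![1, 0, 0, 0, 0, 0, 0], ![0, 1, 0, 0, 0, 0, 0], ![0, 0, 1, 0, 0, 0, 0], ![0, 0, 0, 1, 0, 0, 0], ![0, 0, 0, 0, 1, 1, 0], ![0, 0, 0, 0, 0, 0, 1], ![0, 0, 0, 0, 0, -1, -1]]),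
        (6, ![![1, 0, 0, 0, 0, 0, 0], ![0, 1, 0, 0, 0, 0, 0], ![0, 0, 1, 0, 0, 0, 0], ![0, 0, 0, 1, 0, 0, 0], ![0, 0, 0, 0, 1, 0, 0], ![0, 0, 0, 0, 0, 1, 1], ![0, 0, 0, 0, 0, 0, -1]])]
      ![![1, 0, 0, 0, 0, 0, 0], ![0, 1, 0, 0, 0, 0, 0], ![0, 0, 1, 0, 0, 0, 0], ![0, 0, 0, 1, 0, 0, 0], ![0, 0, 0, 0, 1, 1, 0], ![0, 0, 0, 0, 0, 0, 1], ![0, 0, 0, 0, 0, -1, -1]]
      ![![0, 0], ![0, 0], ![0, 0], ![0, 0], ![1, 0], ![-1, 1], ![-1, -2]]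
      ![0, 0, 0, 0, 1, 0, 0] (by decide +kernel)
  · exact cent_of_cert hk h hdd hpr invC_E7 two_ne_zero E7.hA hJ (by decide) orthE7 thE7 refl_mat (hK4 ho) (by norm_num)
      [(4, ![![1, 0, 0, 0, 0, 0, 0], ![0, 1, 0, 0, 0, 0, 0], ![0, 0, 1, 0, 0, 0, 0], ![0, 0, 0, 1, 1, 0, 0], ![0, 0, 0, 0, 0, 1, 0], ![0, 0, 0, 0, 0, 0, 1], ![0, 0, 0, 0, -1, -1, -1]]),
        (5, ![![1, 0, 0, 0, 0, 0, 0], ![0, 1, 0, 0, 0, 0, 0], ![0, 0, 1, 0, 0, 0, 0], ![0, 0, 0, 1, 0, 0, 0], ![0, 0, 0, 0, 1, 1, 0], ![0, 0, 0, 0, 0, 0, 1], ![0, 0, 0, 0, 0, -1, -1]]),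
        (6, ![![1, 0, 0, 0, 0, 0, 0], ![0, 1, 0, 0, 0, 0, 0], ![0, 0, 1, 0, 0, 0, 0], ![0, 0, 0, 1, 0, 0, 0], ![0, 0, 0, 0, 1, 0, 0], ![0, 0, 0, 0, 0, 1, 1], ![0, 0, 0, 0, 0, 0, -1]])]
      ![![1, 0, 0, 0, 0, 0, 0], ![0, 1, 0, 0, 0, 0, 0], ![0, 0, 1, 0, 0, 0, 0], ![0, 0, 0, 1, 1, 0, 0], ![0, 0, 0, 0, 0, 1, 0], ![0, 0, 0, 0, 0, 0, 1], ![0, 0, 0, 0, -1, -1, -1]]
      ![![0, 0], ![0, 0], ![0, 0], ![0, -1], ![1, 1], ![-1, 1], ![-1, -1]]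
      ![0, 0, 0, 1, 1, 0, 0] (by decide +kernel)
  · exact cent_of_cert hk h hdd hpr invC_E7 two_ne_zero E7.hA hJ (by decide) orthE7 thE7 refl_mat (hK6 ho) (by norm_num)
      [(1, ![![1, 0, 1, 0, 0, 0, 0], ![0, 0, 1, 1, 0, 0, 0], ![0, 1, 0, 1, 0, 0, 0], ![0, 0, 0, 0, 1, 0, 0], ![0, -1, -1, -1, -1, 0, 0], ![0, 1, 1, 1, 1, 1, 0], ![0, 0, 0, 0, 0, 0, 1]]),
        (2, ![![1, 0, 1, 0, 0, 0, 0], ![0, 1, 1, 1, 0, 0, 0], ![0, 0, 0, 1, 0, 0, 0], ![0, 0, 0, 0, 1, 0, 0], ![0, 0, -1, -1, -1, 0, 0], ![0, 0, 1, 1, 1, 1, 0], ![0, 0, 0, 0, 0, 0, 1]]),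
        (3, ![![1, 0, 0, 0, 0, 0, 0], ![0, 1, 0, 1, 0, 0, 0], ![0, 0, 1, 1, 0, 0, 0], ![0, 0, 0, 0, 1, 0, 0], ![0, 0, 0, -1, -1, 0, 0], ![0, 0, 0, 1, 1, 1, 0], ![0, 0, 0, 0, 0, 0, 1]]),
        (4, ![![1, 0, 0, 0, 0, 0, 0], ![0, 1, 0, 0, 0, 0, 0], ![0, 0, 1, 0, 0, 0, 0], ![0, 0, 0, 1, 1, 0, 0], ![0, 0, 0, 0, -1, 0, 0], ![0, 0, 0, 0, 1, 1, 0], ![0, 0, 0, 0, 0, 0, 1]])]
      ![![1, 0, 1, 0, 0, 0, 0], ![0, 0, 1, 1, 0, 0, 0], ![0, 1, 0, 1, 0, 0, 0], ![0, 0, 0, 0, 1, 0, 0], ![0, -1, -1, -1, -1, 0, 0], ![0, 1, 1, 1, 1, 1, 0], ![0, 0, 0, 0, 0, 0, 1]]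
      ![![-1, 1], ![0, -1], ![0, -1], ![1, 0], ![0, 1], ![-1, 0], ![0, 0]]
      ![-1, -1, 0, 0, 0, 0, 0] (by decide +kernel)

omit hr in
theorem thE8 : ∀ i, vec chevE8 8 239 i = (![2, 3, 4, 6, 5, 4, 3, 2] : Fin 8 → ℤ) i := by decide +kernel

omit hr in
theorem orthE8 : orthJ chevE8 ([0, 1, 2, 3, 4, 5, 6] : List (Fin 8)) 239 = true := by decide +kernel

include hk in
/-- the highest root group of `e8` -/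
theorem cent_e8 {f : G →* ↥(chevE8.group k)} {σ : MulAut ↥(chevE8.group k)}
    (h : Dat e8T r e dd f σ (AddEquiv.refl _)) (hdd : ¬ p ∣ dd) (hpr : p ≠ r)
    (ho : orderOf ((r ^ e : ℕ) : ZMod p) = 1 ∨ orderOf ((r ^ e : ℕ) : ZMod p) = 2 ∨ orderOf ((r ^ e : ℕ) : ZMod p) = 3 ∨ orderOf ((r ^ e : ℕ) : ZMod p) = 4 ∨ orderOf ((r ^ e : ℕ) : ZMod p) = 5 ∨ orderOf ((r ^ e : ℕ) : ZMod p) = 6 ∨ orderOf ((r ^ e : ℕ) : ZMod p) = 8 ∨ orderOf ((r ^ e : ℕ) : ZMod p) = 10 ∨ orderOf ((r ^ e : ℕ) : ZMod p) = 12) : CentP chevE8 8 f p 239 := by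
  have hJ : ∀ j ∈ ([0, 1, 2, 3, 4, 5, 6] : List (Fin 8)), ∃ j' ∈ ([0, 1, 2, 3, 4, 5, 6] : List (Fin 8)),
      (AddEquiv.refl (Fin 8 → ℤ)) (sr j) = sr j' := fun j hj => ⟨j, hj, rfl⟩
  rcases ho with ho | ho | ho | ho | ho | ho | ho | ho | ho
  · exact cent_of_cert hk h hdd hpr invC_E8 one_ne_zero E8.hA hJ (by decide) orthE8 thE8 refl_mat (hK1 ho) (by norm_num)
      []
      ![![1, 0, 0, 0, 0, 0, 0, 0], ![0, 1, 0, 0, 0, 0, 0, 0], ![0, 0, 1, 0, 0, 0, 0, 0], ![0, 0, 0, 1, 0, 0, 0, 0], ![0, 0, 0, 0, 1, 0, 0, 0], ![0, 0, 0, 0, 0, 1, 0, 0], ![0, 0, 0, 0, 0, 0, 1, 0], ![0, 0, 0, 0, 0, 0, 0, 1]]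
      ![![0], ![0], ![-1], ![0], ![0], ![1], ![0], ![0]]
      ![0, 0, -1, 0, 0, 0, 0, 0] (by decide +kernel)
  · exact cent_of_cert hk h hdd hpr invC_E8 one_ne_zero E8.hA hJ (by decide) orthE8 thE8 refl_mat (hK2 ho) (by norm_num)
      [(0, ![![-1, 0, 0, 0, 0, 0, 0, 0], ![0, 1, 0, 0, 0, 0, 0, 0], ![1, 0, 1, 0, 0, 0, 0, 0], ![0, 0, 0, 1, 0, 0, 0, 0], ![0, 0, 0, 0, 1, 0, 0, 0], ![0, 0, 0, 0, 0, 1, 0, 0], ![0, 0, 0, 0, 0, 0, 1, 0], ![0, 0, 0, 0, 0, 0, 0, 1]])]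
      ![![-1, 0, 0, 0, 0, 0, 0, 0], ![0, 1, 0, 0, 0, 0, 0, 0], ![1, 0, 1, 0, 0, 0, 0, 0], ![0, 0, 0, 1, 0, 0, 0, 0], ![0, 0, 0, 0, 1, 0, 0, 0], ![0, 0, 0, 0, 0, 1, 0, 0], ![0, 0, 0, 0, 0, 0, 1, 0], ![0, 0, 0, 0, 0, 0, 0, 1]]
      ![![2], ![0], ![-1], ![0], ![0], ![0], ![0], ![0]]
      ![0, 0, -1, 0, 0, 0, 0, 0] (by decide +kernel)
  · exact cent_of_cert hk h hdd hpr invC_E8 one_ne_zero E8.hA hJ (by decide) orthE8 thE8 refl_mat (hK3 ho) (by norm_num)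
      [(0, ![![0, 0, 1, 0, 0, 0, 0, 0], ![0, 1, 0, 0, 0, 0, 0, 0], ![-1, 0, -1, 0, 0, 0, 0, 0], ![1, 0, 1, 1, 0, 0, 0, 0], ![0, 0, 0, 0, 1, 0, 0, 0], ![0, 0, 0, 0, 0, 1, 0, 0], ![0, 0, 0, 0, 0, 0, 1, 0], ![0, 0, 0, 0, 0, 0, 0, 1]]),
        (2, ![![1, 0, 1, 0, 0, 0, 0, 0], ![0, 1, 0, 0, 0, 0, 0, 0], ![0, 0, -1, 0, 0, 0, 0, 0], ![0, 0, 1, 1, 0, 0, 0, 0], ![0, 0, 0, 0, 1, 0, 0, 0], ![0, 0, 0, 0, 0, 1, 0, 0], ![0, 0, 0, 0, 0, 0, 1, 0], ![0, 0, 0, 0, 0, 0, 0, 1]])]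
      ![![0, 0, 1, 0, 0, 0, 0, 0], ![0, 1, 0, 0, 0, 0, 0, 0], ![-1, 0, -1, 0, 0, 0, 0, 0], ![1, 0, 1, 1, 0, 0, 0, 0], ![0, 0, 0, 0, 1, 0, 0, 0], ![0, 0, 0, 0, 0, 1, 0, 0], ![0, 0, 0, 0, 0, 0, 1, 0], ![0, 0, 0, 0, 0, 0, 0, 1]]
      ![![2, 1], ![0, 0], ![-1, 1], ![0, -1], ![0, 0], ![0, 0], ![0, 0], ![0, 0]]
      ![0, 0, -1, -1, 0, 0, 0, 0] (by decide +kernel)
  · exact cent_of_cert hk h hdd hpr invC_E8 one_ne_zero E8.hA hJ (by decide) orthE8 thE8 refl_mat (hK4 ho) (by norm_num)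
      [(0, ![![0, 0, 1, 0, 0, 0, 0, 0], ![1, 1, 1, 1, 0, 0, 0, 0], ![0, 0, 0, 1, 0, 0, 0, 0], ![-1, 0, -1, -1, 0, 0, 0, 0], ![1, 0, 1, 1, 1, 0, 0, 0], ![0, 0, 0, 0, 0, 1, 0, 0], ![0, 0, 0, 0, 0, 0, 1, 0], ![0, 0, 0, 0, 0, 0, 0, 1]]),
        (2, ![![1, 0, 1, 0, 0, 0, 0, 0], ![0, 1, 1, 1, 0, 0, 0, 0], ![0, 0, 0, 1, 0, 0, 0, 0], ![0, 0, -1, -1, 0, 0, 0, 0], ![0, 0, 1, 1, 1, 0, 0, 0], ![0, 0, 0, 0, 0, 1, 0, 0], ![0, 0, 0, 0, 0, 0, 1, 0], ![0, 0, 0, 0, 0, 0, 0, 1]]),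
        (3, ![![1, 0, 0, 0, 0, 0, 0, 0], ![0, 1, 0, 1, 0, 0, 0, 0], ![0, 0, 1, 1, 0, 0, 0, 0], ![0, 0, 0, -1, 0, 0, 0, 0], ![0, 0, 0, 1, 1, 0, 0, 0], ![0, 0, 0, 0, 0, 1, 0, 0], ![0, 0, 0, 0, 0, 0, 1, 0], ![0, 0, 0, 0, 0, 0, 0, 1]])]
      ![![0, 0, 1, 0, 0, 0, 0, 0], ![1, 1, 1, 1, 0, 0, 0, 0], ![0, 0, 0, 1, 0, 0, 0, 0], ![-1, 0, -1, -1, 0, 0, 0, 0], ![1, 0, 1, 1, 1, 0, 0, 0], ![0, 0, 0, 0, 0, 1, 0, 0], ![0, 0, 0, 0, 0, 0, 1, 0], ![0, 0, 0, 0, 0, 0, 0, 1]]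
      ![![-1, -1], ![-1, 0], ![1, -1], ![1, 1], ![-1, 0], ![0, 0], ![0, 0], ![0, 0]]
      ![0, -1, 0, 0, 0, 0, 0, 0] (by decide +kernel)
  · exact cent_of_cert hk h hdd hpr invC_E8 one_ne_zero E8.hA hJ (by decide) orthE8 thE8 refl_mat (hK5 ho) (by norm_num)
      [(0, ![![0, 0, 1, 0, 0, 0, 0, 0], ![1, 0, 1, 1, 0, 0, 0, 0], ![0, 1, 0, 1, 0, 0, 0, 0], ![-1, -1, -1, -1, 0, 0, 0, 0], ![1, 1, 1, 1, 1, 0, 0, 0], ![0, 0, 0, 0, 0, 1, 0, 0], ![0, 0, 0, 0, 0, 0, 1, 0], ![0, 0, 0, 0, 0, 0, 0, 1]]),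
        (1, ![![1, 0, 1, 0, 0, 0, 0, 0], ![0, 0, 1, 1, 0, 0, 0, 0], ![0, 1, 0, 1, 0, 0, 0, 0], ![0, -1, -1, -1, 0, 0, 0, 0], ![0, 1, 1, 1, 1, 0, 0, 0], ![0, 0, 0, 0, 0, 1, 0, 0], ![0, 0, 0, 0, 0, 0, 1, 0], ![0, 0, 0, 0, 0, 0, 0, 1]]),
        (2, ![![1, 0, 1, 0, 0, 0, 0, 0], ![0, 1, 1, 1, 0, 0, 0, 0], ![0, 0, 0, 1, 0, 0, 0, 0], ![0, 0, -1, -1, 0, 0, 0, 0], ![0, 0, 1, 1, 1, 0, 0, 0], ![0, 0, 0, 0, 0, 1, 0, 0], ![0, 0, 0, 0, 0, 0, 1, 0], ![0, 0, 0, 0, 0, 0, 0, 1]]),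
        (3, ![![1, 0, 0, 0, 0, 0, 0, 0], ![0, 1, 0, 1, 0, 0, 0, 0], ![0, 0, 1, 1, 0, 0, 0, 0], ![0, 0, 0, -1, 0, 0, 0, 0], ![0, 0, 0, 1, 1, 0, 0, 0], ![0, 0, 0, 0, 0, 1, 0, 0], ![0, 0, 0, 0, 0, 0, 1, 0], ![0, 0, 0, 0, 0, 0, 0, 1]])]
      ![![0, 0, 1, 0, 0, 0, 0, 0], ![1, 0, 1, 1, 0, 0, 0, 0], ![0, 1, 0, 1, 0, 0, 0, 0], ![-1, -1, -1, -1, 0, 0, 0, 0], ![1, 1, 1, 1, 1, 0, 0, 0], ![0, 0, 0, 0, 0, 1, 0, 0], ![0, 0, 0, 0, 0, 0, 1, 0], ![0, 0, 0, 0, 0, 0, 0, 1]]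
      ![![2, 1, 1, 1], ![0, 0, 1, -1], ![-1, 1, 0, 0], ![0, -1, 0, 1], ![0, 0, -1, -1], ![0, 0, 0, 0], ![0, 0, 0, 0], ![0, 0, 0, 0]]
      ![1, 1, 1, 2, 2, 0, 0, 0] (by decide +kernel)
  · exact cent_of_cert hk h hdd hpr invC_E8 one_ne_zero E8.hA hJ (by decide) orthE8 thE8 refl_mat (hK6 ho) (by norm_num)
      [(1, ![![1, 0, 1, 0, 0, 0, 0, 0], ![0, 0, 1, 1, 0, 0, 0, 0], ![0, 1, 0, 1, 0, 0, 0, 0], ![0, 0, 0, 0, 1, 0, 0, 0], ![0, -1, -1, -1, -1, 0, 0, 0], ![0, 1, 1, 1, 1, 1, 0, 0], ![0, 0, 0, 0, 0, 0, 1, 0], ![0, 0, 0, 0, 0, 0, 0, 1]]),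
        (2, ![![1, 0, 1, 0, 0, 0, 0, 0], ![0, 1, 1, 1, 0, 0, 0, 0], ![0, 0, 0, 1, 0, 0, 0, 0], ![0, 0, 0, 0, 1, 0, 0, 0], ![0, 0, -1, -1, -1, 0, 0, 0], ![0, 0, 1, 1, 1, 1, 0, 0], ![0, 0, 0, 0, 0, 0, 1, 0], ![0, 0, 0, 0, 0, 0, 0, 1]]),
        (3, ![![1, 0, 0, 0, 0, 0, 0, 0], ![0, 1, 0, 1, 0, 0, 0, 0], ![0, 0, 1, 1, 0, 0, 0, 0], ![0, 0, 0, 0, 1, 0, 0, 0], ![0, 0, 0, -1, -1, 0, 0, 0], ![0, 0, 0, 1, 1, 1, 0, 0], ![0, 0, 0, 0, 0, 0, 1, 0], ![0, 0, 0, 0, 0, 0, 0, 1]]),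
        (4, ![![1, 0, 0, 0, 0, 0, 0, 0], ![0, 1, 0, 0, 0, 0, 0, 0], ![0, 0, 1, 0, 0, 0, 0, 0], ![0, 0, 0, 1, 1, 0, 0, 0], ![0, 0, 0, 0, -1, 0, 0, 0], ![0, 0, 0, 0, 1, 1, 0, 0], ![0, 0, 0, 0, 0, 0, 1, 0], ![0, 0, 0, 0, 0, 0, 0, 1]])]
      ![![1, 0, 1, 0, 0, 0, 0, 0], ![0, 0, 1, 1, 0, 0, 0, 0], ![0, 1, 0, 1, 0, 0, 0, 0], ![0, 0, 0, 0, 1, 0, 0, 0], ![0, -1, -1, -1, -1, 0, 0, 0], ![0, 1, 1, 1, 1, 1, 0, 0], ![0, 0, 0, 0, 0, 0, 1, 0], ![0, 0, 0, 0, 0, 0, 0, 1]]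
      ![![-1, 1], ![0, -1], ![0, -1], ![1, 0], ![0, 1], ![-1, 0], ![0, 0], ![0, 0]]
      ![-1, -1, 0, 0, 0, 0, 0, 0] (by decide +kernel)
  · exact cent_of_cert hk h hdd hpr invC_E8 one_ne_zero E8.hA hJ (by decide) orthE8 thE8 refl_mat (hK8 ho) (by norm_num)
      [(0, ![![0, 0, 1, 0, 0, 0, 0, 0], ![1, 0, 1, 1, 0, 0, 0, 0], ![0, 1, 0, 1, 0, 0, 0, 0], ![0, 0, 0, 0, 1, 0, 0, 0], ![-1, -1, -1, -1, -1, 0, 0, 0], ![1, 1, 1, 1, 1, 1, 0, 0], ![0, 0, 0, 0, 0, 0, 1, 0], ![0, 0, 0, 0, 0, 0, 0, 1]]),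
        (1, ![![1, 0, 1, 0, 0, 0, 0, 0], ![0, 0, 1, 1, 0, 0, 0, 0], ![0, 1, 0, 1, 0, 0, 0, 0], ![0, 0, 0, 0, 1, 0, 0, 0], ![0, -1, -1, -1, -1, 0, 0, 0], ![0, 1, 1, 1, 1, 1, 0, 0], ![0, 0, 0, 0, 0, 0, 1, 0], ![0, 0, 0, 0, 0, 0, 0, 1]]),
        (2, ![![1, 0, 1, 0, 0, 0, 0, 0], ![0, 1, 1, 1, 0, 0, 0, 0], ![0, 0, 0, 1, 0, 0, 0, 0], ![0, 0, 0, 0, 1, 0, 0, 0], ![0, 0, -1, -1, -1, 0, 0, 0], ![0, 0, 1, 1, 1, 1, 0, 0], ![0, 0, 0, 0, 0, 0, 1, 0], ![0, 0, 0, 0, 0, 0, 0, 1]]),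
        (3, ![![1, 0, 0, 0, 0, 0, 0, 0], ![0, 1, 0, 1, 0, 0, 0, 0], ![0, 0, 1, 1, 0, 0, 0, 0], ![0, 0, 0, 0, 1, 0, 0, 0], ![0, 0, 0, -1, -1, 0, 0, 0], ![0, 0, 0, 1, 1, 1, 0, 0], ![0, 0, 0, 0, 0, 0, 1, 0], ![0, 0, 0, 0, 0, 0, 0, 1]]),
        (4, ![![1, 0, 0, 0, 0, 0, 0, 0], ![0, 1, 0, 0, 0, 0, 0, 0], ![0, 0, 1, 0, 0, 0, 0, 0], ![0, 0, 0, 1, 1, 0, 0, 0], ![0, 0, 0, 0, -1, 0, 0, 0], ![0, 0, 0, 0, 1, 1, 0, 0], ![0, 0, 0, 0, 0, 0, 1, 0], ![0, 0, 0, 0, 0, 0, 0, 1]])]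
      ![![0, 0, 1, 0, 0, 0, 0, 0], ![1, 0, 1, 1, 0, 0, 0, 0], ![0, 1, 0, 1, 0, 0, 0, 0], ![0, 0, 0, 0, 1, 0, 0, 0], ![-1, -1, -1, -1, -1, 0, 0, 0], ![1, 1, 1, 1, 1, 1, 0, 0], ![0, 0, 0, 0, 0, 0, 1, 0], ![0, 0, 0, 0, 0, 0, 0, 1]]
      ![![0, -1, 0, -1], ![0, 0, -1, -1], ![1, 0, -1, 0], ![0, 1, 1, 0], ![0, 0, 1, 1], ![-1, -1, -1, 0], ![0, 0, 0, 0], ![0, 0, 0, 0]]
      ![1, -1, 2, 2, 0, 1, 0, 0] (by decide +kernel)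
  · exact cent_of_cert hk h hdd hpr invC_E8 one_ne_zero E8.hA hJ (by decide) orthE8 thE8 refl_mat (hK10 ho) (by norm_num)
      [(1, ![![1, 0, 1, 0, 0, 0, 0, 0], ![0, 0, 1, 1, 0, 0, 0, 0], ![0, 1, 0, 1, 0, 0, 0, 0], ![0, 0, 0, 0, 1, 0, 0, 0], ![0, 0, 0, 0, 0, 1, 0, 0], ![0, 0, 0, 0, 0, 0, 1, 0], ![0, -1, -1, -1, -1, -1, -1, 0], ![0, 1, 1, 1, 1, 1, 1, 1]]),
        (2, ![![1, 0, 1, 0, 0, 0, 0, 0], ![0, 1, 1, 1, 0, 0, 0, 0], ![0, 0, 0, 1, 0, 0, 0, 0], ![0, 0, 0, 0, 1, 0, 0, 0], ![0, 0, 0, 0, 0, 1, 0, 0], ![0, 0, 0, 0, 0, 0, 1, 0], ![0, 0, -1, -1, -1, -1, -1, 0], ![0, 0, 1, 1, 1, 1, 1, 1]]),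
        (3, ![![1, 0, 0, 0, 0, 0, 0, 0], ![0, 1, 0, 1, 0, 0, 0, 0], ![0, 0, 1, 1, 0, 0, 0, 0], ![0, 0, 0, 0, 1, 0, 0, 0], ![0, 0, 0, 0, 0, 1, 0, 0], ![0, 0, 0, 0, 0, 0, 1, 0], ![0, 0, 0, -1, -1, -1, -1, 0], ![0, 0, 0, 1, 1, 1, 1, 1]]),
        (4, ![![1, 0, 0, 0, 0, 0, 0, 0], ![0, 1, 0, 0, 0, 0, 0, 0], ![0, 0, 1, 0, 0, 0, 0, 0], ![0, 0, 0, 1, 1, 0, 0, 0], ![0, 0, 0, 0, 0, 1, 0, 0], ![0, 0, 0, 0, 0, 0, 1, 0], ![0, 0, 0, 0, -1, -1, -1, 0], ![0, 0, 0, 0, 1, 1, 1, 1]]),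
        (5, ![![1, 0, 0, 0, 0, 0, 0, 0], ![0, 1, 0, 0, 0, 0, 0, 0], ![0, 0, 1, 0, 0, 0, 0, 0], ![0, 0, 0, 1, 0, 0, 0, 0], ![0, 0, 0, 0, 1, 1, 0, 0], ![0, 0, 0, 0, 0, 0, 1, 0], ![0, 0, 0, 0, 0, -1, -1, 0], ![0, 0, 0, 0, 0, 1, 1, 1]]),
        (6, ![![1, 0, 0, 0, 0, 0, 0, 0], ![0, 1, 0, 0, 0, 0, 0, 0], ![0, 0, 1, 0, 0, 0, 0, 0], ![0, 0, 0, 1, 0, 0, 0, 0], ![0, 0, 0, 0, 1, 0, 0, 0], ![0, 0, 0, 0, 0, 1, 1, 0], ![0, 0, 0, 0, 0, 0, -1, 0], ![0, 0, 0, 0, 0, 0, 1, 1]])]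
      ![![1, 0, 1, 0, 0, 0, 0, 0], ![0, 0, 1, 1, 0, 0, 0, 0], ![0, 1, 0, 1, 0, 0, 0, 0], ![0, 0, 0, 0, 1, 0, 0, 0], ![0, 0, 0, 0, 0, 1, 0, 0], ![0, 0, 0, 0, 0, 0, 1, 0], ![0, -1, -1, -1, -1, -1, -1, 0], ![0, 1, 1, 1, 1, 1, 1, 1]]
      ![![-1, 0, 0, 1], ![0, 0, -1, 0], ![0, 0, -1, 0], ![0, 0, 1, -1], ![1, -1, 1, 0], ![0, 1, -1, 1], ![-1, 1, 0, 0], ![0, -1, 0, 0]]
      ![-1, 0, -1, -1, 0, 0, 0, 0] (by decide +kernel)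
  · exact cent_of_cert hk h hdd hpr invC_E8 one_ne_zero E8.hA hJ (by decide) orthE8 thE8 refl_mat (hK12 ho) (by norm_num)
      [(0, ![![0, 0, 1, 0, 0, 0, 0, 0], ![1, 0, 1, 1, 0, 0, 0, 0], ![0, 1, 0, 1, 0, 0, 0, 0], ![0, 0, 0, 0, 1, 0, 0, 0], ![0, 0, 0, 0, 0, 1, 0, 0], ![-1, -1, -1, -1, -1, -1, 0, 0], ![1, 1, 1, 1, 1, 1, 1, 0], ![0, 0, 0, 0, 0, 0, 0, 1]]),
        (1, ![![1, 0, 1, 0, 0, 0, 0, 0], ![0, 0, 1, 1, 0, 0, 0, 0], ![0, 1, 0, 1, 0, 0, 0, 0], ![0, 0, 0, 0, 1, 0, 0, 0], ![0, 0, 0, 0, 0, 1, 0, 0], ![0, -1, -1, -1, -1, -1, 0, 0], ![0, 1, 1, 1, 1, 1, 1, 0], ![0, 0, 0, 0, 0, 0, 0, 1]]),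
        (2, ![![1, 0, 1, 0, 0, 0, 0, 0], ![0, 1, 1, 1, 0, 0, 0, 0], ![0, 0, 0, 1, 0, 0, 0, 0], ![0, 0, 0, 0, 1, 0, 0, 0], ![0, 0, 0, 0, 0, 1, 0, 0], ![0, 0, -1, -1, -1, -1, 0, 0], ![0, 0, 1, 1, 1, 1, 1, 0], ![0, 0, 0, 0, 0, 0, 0, 1]]),
        (3, ![![1, 0, 0, 0, 0, 0, 0, 0], ![0, 1, 0, 1, 0, 0, 0, 0], ![0, 0, 1, 1, 0, 0, 0, 0], ![0, 0, 0, 0, 1, 0, 0, 0], ![0, 0, 0, 0, 0, 1, 0, 0], ![0, 0, 0, -1, -1, -1, 0, 0], ![0, 0, 0, 1, 1, 1, 1, 0], ![0, 0, 0, 0, 0, 0, 0, 1]]),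
        (4, ![![1, 0, 0, 0, 0, 0, 0, 0], ![0, 1, 0, 0, 0, 0, 0, 0], ![0, 0, 1, 0, 0, 0, 0, 0], ![0, 0, 0, 1, 1, 0, 0, 0], ![0, 0, 0, 0, 0, 1, 0, 0], ![0, 0, 0, 0, -1, -1, 0, 0], ![0, 0, 0, 0, 1, 1, 1, 0], ![0, 0, 0, 0, 0, 0, 0, 1]]),
        (5, ![![1, 0, 0, 0, 0, 0, 0, 0], ![0, 1, 0, 0, 0, 0, 0, 0], ![0, 0, 1, 0, 0, 0, 0, 0], ![0, 0, 0, 1, 0, 0, 0, 0], ![0, 0, 0, 0, 1, 1, 0, 0], ![0, 0, 0, 0, 0, -1, 0, 0], ![0, 0, 0, 0, 0, 1, 1, 0], ![0, 0, 0, 0, 0, 0, 0, 1]])]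
      ![![0, 0, 1, 0, 0, 0, 0, 0], ![1, 0, 1, 1, 0, 0, 0, 0], ![0, 1, 0, 1, 0, 0, 0, 0], ![0, 0, 0, 0, 1, 0, 0, 0], ![0, 0, 0, 0, 0, 1, 0, 0], ![-1, -1, -1, -1, -1, -1, 0, 0], ![1, 1, 1, 1, 1, 1, 1, 0], ![0, 0, 0, 0, 0, 0, 0, 1]]
      ![![0, 0, -1, 0], ![1, -1, -1, 0], ![0, 0, 0, -1], ![0, 1, 0, 0], ![0, 0, 1, 0], ![0, 0, 0, 1], ![-1, -1, 0, 0], ![0, 0, 0, 0]]
      ![-1, 1, 0, 1, 0, 0, 0, 0] (by decide +kernel)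

include hk in
/-- the highest root group of `twE6` -/
theorem cent_twE6 {f : G →* ↥(chevE6.group k)} {σ : MulAut ↥(chevE6.group k)}
    (h : Dat hp6 r e dd f σ (permE rho6)) (hdd : ¬ p ∣ dd) (hpr : p ≠ r)
    (ho : orderOf ((r ^ e : ℕ) : ZMod p) = 1 ∨ orderOf ((r ^ e : ℕ) : ZMod p) = 2 ∨ orderOf ((r ^ e : ℕ) : ZMod p) = 3 ∨ orderOf ((r ^ e : ℕ) : ZMod p) = 4 ∨ orderOf ((r ^ e : ℕ) : ZMod p) = 6) : CentP chevE6 6 f p 71 := by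
  have hJ : ∀ j ∈ ([0, 2, 3, 4, 5] : List (Fin 6)), ∃ j' ∈ ([0, 2, 3, 4, 5] : List (Fin 6)),
      (permE rho6 : (Fin 6 → ℤ) ≃+ (Fin 6 → ℤ)) (sr j) = sr j' := by
    intro j hj
    refine ⟨(![5, 1, 4, 3, 2, 0] : Fin 6 → Fin 6) j, ?_, ?_⟩
    · revert j
      decide
    · rw [perm6_mat]
      funext m
      rw [sr_apply']
      revert j m
      decide
  rcases ho with ho | ho | ho | ho | ho
  · exact cent_of_cert hk h hdd hpr invC_E6 three_ne_zero E6.hA hJ (by decide) orthE6 thE6 perm6_mat (hK1 ho) (by norm_num)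
      []
      ![![0, 0, 0, 0, 0, 1], ![0, 1, 0, 0, 0, 0], ![0, 0, 0, 0, 1, 0], ![0, 0, 0, 1, 0, 0], ![0, 0, 1, 0, 0, 0], ![1, 0, 0, 0, 0, 0]]
      ![![-1], ![1], ![0], ![0], ![0], ![-1]]
      ![-1, 0, 0, 0, 0, 0] (by decide +kernel)
  · exact cent_of_cert hk h hdd hpr invC_E6 three_ne_zero E6.hA hJ (by decide) orthE6 thE6 perm6_mat (hK2 ho) (by norm_num)
      []
      ![![0, 0, 0, 0, 0, 1], ![0, 1, 0, 0, 0, 0], ![0, 0, 0, 0, 1, 0], ![0, 0, 0, 1, 0, 0], ![0, 0, 1, 0, 0, 0], ![1, 0, 0, 0, 0, 0]]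
      ![![0], ![0], ![1], ![0], ![-1], ![0]]
      ![0, 0, 1, 0, 0, 0] (by decide +kernel)
  · exact cent_of_cert hk h hdd hpr invC_E6 three_ne_zero E6.hA hJ (by decide) orthE6 thE6 perm6_mat (hK3 ho) (by norm_num)
      [(0, ![![0, 0, 1, 0, 0, 0], ![0, 1, 0, 0, 0, 0], ![-1, 0, -1, 0, 0, 0], ![1, 0, 1, 1, 0, 0], ![0, 0, 0, 0, 1, 0], ![0, 0, 0, 0, 0, 1]]),
        (2, ![![1, 0, 1, 0, 0, 0], ![0, 1, 0, 0, 0, 0], ![0, 0, -1, 0, 0, 0], ![0, 0, 1, 1, 0, 0], ![0, 0, 0, 0, 1, 0], ![0, 0, 0, 0, 0, 1]])]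
      ![![0, 0, 0, 0, 0, 1], ![0, 1, 0, 0, 0, 0], ![0, 0, 0, 0, 1, 0], ![1, 0, 1, 1, 0, 0], ![-1, 0, -1, 0, 0, 0], ![0, 0, 1, 0, 0, 0]]
      ![![-1, 1], ![0, 0], ![2, 1], ![0, -1], ![-1, 1], ![-1, -2]]
      ![-1, 0, 0, -1, 0, 0] (by decide +kernel)
  · exact cent_of_cert hk h hdd hpr invC_E6 three_ne_zero E6.hA hJ (by decide) orthE6 thE6 perm6_mat (hK4 ho) (by norm_num)
      [(0, ![![-1, 0, 0, 0, 0, 0], ![0, 1, 0, 0, 0, 0], ![1, 0, 1, 0, 0, 0], ![0, 0, 0, 1, 0, 0], ![0, 0, 0, 0, 1, 0], ![0, 0, 0, 0, 0, 1]])]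
      ![![0, 0, 0, 0, 0, 1], ![0, 1, 0, 0, 0, 0], ![0, 0, 0, 0, 1, 0], ![0, 0, 0, 1, 0, 0], ![1, 0, 1, 0, 0, 0], ![-1, 0, 0, 0, 0, 0]]
      ![![2, 0], ![0, 0], ![-1, 0], ![0, 0], ![0, -1], ![0, 2]]
      ![0, 0, -1, 0, 0, 0] (by decide +kernel)
  · exact cent_of_cert hk h hdd hpr invC_E6 three_ne_zero E6.hA hJ (by decide) orthE6 thE6 perm6_mat (hK6 ho) (by norm_num)
      [(0, ![![0, 0, 1, 0, 0, 0], ![0, 1, 0, 0, 0, 0], ![-1, 0, -1, 0, 0, 0], ![1, 0, 1, 1, 0, 0], ![0, 0, 0, 0, 1, 0], ![0, 0, 0, 0, 0, 1]]),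
        (2, ![![1, 0, 1, 0, 0, 0], ![0, 1, 0, 0, 0, 0], ![0, 0, -1, 0, 0, 0], ![0, 0, 1, 1, 0, 0], ![0, 0, 0, 0, 1, 0], ![0, 0, 0, 0, 0, 1]])]
      ![![0, 0, 0, 0, 0, 1], ![0, 1, 0, 0, 0, 0], ![0, 0, 0, 0, 1, 0], ![1, 0, 1, 1, 0, 0], ![-1, 0, -1, 0, 0, 0], ![0, 0, 1, 0, 0, 0]]
      ![![0, 1], ![0, 0], ![-1, 0], ![1, 0], ![0, -1], ![-1, 1]]
      ![0, 0, -1, 0, 0, 0] (by decide +kernel)

omit hr in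
theorem thD4 : ∀ i, vec chevD4 4 23 i = (![1, 2, 1, 1] : Fin 4 → ℤ) i := by decide +kernel

omit hr in
theorem orthD4 : orthJ chevD4 ([0, 2, 3] : List (Fin 4)) 23 = true := by decide +kernel

include hk in
/-- the highest root group of `twD4` -/
theorem cent_twD4 {f : G →* ↥(chevD4.group k)} {σ : MulAut ↥(chevD4.group k)}
    (h : Dat hp4 r e dd f σ (permE rho4)) (hdd : ¬ p ∣ dd) (hpr : p ≠ r)
    (ho : orderOf ((r ^ e : ℕ) : ZMod p) = 1 ∨ orderOf ((r ^ e : ℕ) : ZMod p) = 2 ∨ orderOf ((r ^ e : ℕ) : ZMod p) = 3 ∨ orderOf ((r ^ e : ℕ) : ZMod p) = 6) : CentP chevD4 4 f p 23 := by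
  have hB : InvC chevD4 4 2 ![![2, 2, 1, 1], ![2, 4, 2, 2], ![1, 2, 2, 1], ![1, 2, 1, 2]] := invC_D4
  have hJ : ∀ j ∈ ([0, 2, 3] : List (Fin 4)), ∃ j' ∈ ([0, 2, 3] : List (Fin 4)),
      (permE rho4 : (Fin 4 → ℤ) ≃+ (Fin 4 → ℤ)) (sr j) = sr j' := by
    intro j hj
    refine ⟨(![2, 1, 3, 0] : Fin 4 → Fin 4) j, ?_, ?_⟩
    · revert j
      decide
    · rw [perm4_mat]
      funext m
      rw [sr_apply']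
      revert j m
      decide
  rcases ho with ho | ho | ho | ho
  · exact cent_of_cert hk h hdd hpr hB two_ne_zero D4.hA hJ (by decide) orthD4 thD4 perm4_mat (hK1 ho) (by norm_num)
      []
      ![![0, 0, 1, 0], ![0, 1, 0, 0], ![0, 0, 0, 1], ![1, 0, 0, 0]]
      ![![2], ![-3], ![2], ![2]]
      ![2, 1, 0, 0] (by decide +kernel)
  · exact cent_of_cert hk h hdd hpr hB two_ne_zero D4.hA hJ (by decide) orthD4 thD4 perm4_mat (hK2 ho) (by norm_num)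
      [(0, ![![-1, 0, 0, 0], ![1, 1, 0, 0], ![0, 0, 1, 0], ![0, 0, 0, 1]])]
      ![![0, 0, 1, 0], ![1, 1, 0, 0], ![0, 0, 0, 1], ![-1, 0, 0, 0]]
      ![![2], ![-1], ![-2], ![2]]
      ![0, -1, 0, 0] (by decide +kernel)
  · exact cent_of_cert hk h hdd hpr hB two_ne_zero D4.hA hJ (by decide) orthD4 thD4 perm4_mat (hK3 ho) (by norm_num)
      []
      ![![0, 0, 1, 0], ![0, 1, 0, 0], ![0, 0, 0, 1], ![1, 0, 0, 0]]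
      ![![1, 0], ![0, 0], ![0, 1], ![-1, -1]]
      ![1, 0, 0, 0] (by decide +kernel)
  · exact cent_of_cert hk h hdd hpr hB two_ne_zero D4.hA hJ (by decide) orthD4 thD4 perm4_mat (hK6 ho) (by norm_num)
      [(0, ![![-1, 0, 0, 0], ![1, 1, 0, 0], ![0, 0, 1, 0], ![0, 0, 0, 1]])]
      ![![0, 0, 1, 0], ![1, 1, 0, 0], ![0, 0, 0, 1], ![-1, 0, 0, 0]]
      ![![1, 0], ![0, -1], ![0, 1], ![-1, 1]]
      ![1, 0, 0, 0] (by decide +kernel)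

end

end Cfsg.Agent.H192.U5
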