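import Mathlib

/-!
# The fixed field of an automorphism of a finite field, as a field in `Type`
-/

set_option autoImplicit false

namespace Cfsg.Agent.H192

/-- For an automorphism `σ` of order `r` of a finite field `F`, there is a finite field `F₀ : Type`
with `|F| = |F₀| ^ r` and an embedding onto the fixed field of `σ`. -/
theorem exists_fixed_field {F : Type*} [Field F] [Fintype F] (σ : F ≃+* F) :
    ∃ (F₀ : Type) (_ : Field F₀) (_ : Fintype F₀), Fintype.card F = Fintype.card F₀ ^ orderOf (σ : RingAut F) ∧
      ∃ ι : F₀ →+* F, (∀ s, σ (ι s) = ι s) ∧ ∀ t : F, σ t = t → ∃ s : F₀, ι s = t := by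
  classical
  let G : Subgroup (RingAut F) := Subgroup.zpowers (σ : RingAut F)
  have hfinA : Finite (RingAut F) := by
    apply Finite.of_injective (fun τ : RingAut F => (τ : F → F))
    intro τ τ' h
    exact RingEquiv.ext (congrFun h)
  have : Fintype G := Fintype.ofFinite _
  have : FaithfulSMul G F := by
    refine ⟨fun {g h} hgh => ?_⟩
    apply Subtype.ext
    apply RingEquiv.ext
    intro x
    exact hgh x
  let K : Subfield F := FixedPoints.subfield G F
  have : Fintype K := Fintype.ofFinite _
  have hcard : Fintype.card F = Fintype.card K ^ orderOf (σ : RingAut F) := by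
    have h1 : Module.finrank K F = Fintype.card G := FixedPoints.finrank_eq_card G F
    have h2 : Fintype.card G = orderOf (σ : RingAut F) := by
      rw [← Nat.card_eq_fintype_card]
      exact Nat.card_zpowers _
    rw [Module.card_eq_pow_finrank (K := K) (V := F), h1, h2]
  have hmem : ∀ t : F, t ∈ K ↔ σ t = t := by
    intro t
    constructor
    · intro h
      exact h ⟨σ, Subgroup.mem_zpowers _⟩
    · rintro h ⟨g, hg⟩
      obtain ⟨k, rfl⟩ := Subgroup.mem_zpowers_iff.1 hg
      have h1 : (σ : RingAut F) ∈ MulAction.stabilizer (RingAut F) t := h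
      exact (MulAction.stabilizer (RingAut F) t).zpow_mem h1 k
  -- a copy in `Type`
  obtain ⟨p, hp⟩ := CharP.exists K
  have := hp
  have : Fact p.Prime := ⟨CharP.char_is_prime K p⟩
  obtain ⟨n, -, hn⟩ := FiniteField.card K p
  have hn0 : (n : ℕ) ≠ 0 := n.pos.ne'
  have : Fintype (GaloisField p n) := Fintype.ofFinite _
  have hc : Fintype.card (GaloisField p n) = Fintype.card K := by
    rw [← Nat.card_eq_fintype_card, GaloisField.card p n hn0, hn]
  let e : GaloisField p n ≃+* K := FiniteField.ringEquivOfCardEq hc
  refine ⟨GaloisField p n, inferInstance, inferInstance, ?_, (K.subtype).comp (e : GaloisField p n →+* K), ?_, ?_⟩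
  · rw [hc, hcard]
  · intro s
    exact (hmem _).1 (e s).2
  · intro t ht
    refine ⟨e.symm ⟨t, (hmem t).2 ht⟩, ?_⟩
    simp

end Cfsg.Agent.H192
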