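import Mathlib
import Cfsg.Agent.H975.FieldDef

/-!
# Fixed points of field automorphisms: the abstract part (tasks 703, 704)

* `Sb x N₀` : the fixed points of `x` have a normal subgroup isomorphic to `N₀` with trivial centraliser;
* `Sb.of_fix`, `Sb.congr` : it depends on the fixed points only, and is invariant under isomorphisms;
* `sb_of_std` : `Y`, `Y₀` in `Γ`, `x` induced by an automorphism `φ` of `Γ`, `Y₀` normal in the fixed points of `φ`;
* `sb_of_fam` : the same if `x ^ i` is induced by `conj c * φ`, `c = z⁻¹ φ z` (Lang), `(conj c * φ) ^ p = φ ^ p = σ`.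
-/

set_option autoImplicit false
set_option linter.unusedSectionVars false

namespace Cfsg.Agent.H192.Fc

open Subgroup Cfsg

universe u v w

/-- the fixed points of `x` have a normal subgroup isomorphic to `N₀` with trivial centraliser -/
def Sb {Y : Type*} [Group Y] (x : MulAut Y) (N₀ : Type*) [Group N₀] : Prop :=
  ∃ N : Subgroup Y, (∀ y ∈ N, x y = y) ∧ (∀ y, x y = y → y ∈ normalizer (N : Set Y)) ∧
      Nonempty (↥N ≃* N₀) ∧ (∀ y, x y = y → y ∈ centralizer (N : Set Y) → y = 1)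

theorem Sb.of_fix {Y : Type*} [Group Y] {N₀ : Type*} [Group N₀] {x x' : MulAut Y} (h : ∀ y, x y = y ↔ x' y = y)
    (hx : Sb x' N₀) : Sb x N₀ := by
  obtain ⟨N, h1, h2, h3, h6⟩ := hx
  exact ⟨N, fun y hy => (h y).2 (h1 y hy), fun y hy => h2 y ((h y).1 hy), h3, fun y hy => h6 y ((h y).1 hy)⟩

theorem Sb.congr {N₀ : Type*} [Group N₀] {Y Y' : Type*} [Group Y] [Group Y'] (e : Y ≃* Y') {x : MulAut Y}
    {x' : MulAut Y'} (h : ∀ y, x' (e y) = e (x y)) (hx : Sb x N₀) : Sb x' N₀ := by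
  obtain ⟨N, h1, h2, ⟨h3⟩, h6⟩ := hx
  have hfix : ∀ y, x' y = y ↔ x (e.symm y) = e.symm y := by
    intro y
    have h9 := h (e.symm y)
    rw [e.apply_symm_apply] at h9
    rw [h9]
    constructor
    · intro h10
      apply e.injective
      rw [h10, e.apply_symm_apply]
    · intro h10
      rw [h10, e.apply_symm_apply]
  have hmem : ∀ y, y ∈ N.map e.toMonoidHom ↔ e.symm y ∈ N := by
    intro y
    constructor
    · rintro ⟨z, hz, rfl⟩
      have : e.symm (e.toMonoidHom z) = z := e.symm_apply_apply z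
      rw [this]; exact hz
    · intro hy
      exact ⟨_, hy, e.apply_symm_apply y⟩
  have eN : ↥N ≃* ↥(N.map e.toMonoidHom) := N.equivMapOfInjective e.toMonoidHom e.injective
  refine ⟨N.map e.toMonoidHom, ?_, ?_, ⟨eN.symm.trans h3⟩, ?_⟩
  · intro y hy
    exact (hfix y).2 (h1 _ ((hmem y).1 hy))
  · intro y hy
    have h9 := Subgroup.mem_normalizer_iff.1 (h2 _ ((hfix y).1 hy))
    rw [Subgroup.mem_normalizer_iff]
    intro z
    rw [hmem, hmem, h9, map_mul, map_mul, map_inv]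
  · intro y hy hyc
    have h9 := h6 _ ((hfix y).1 hy) (by
      rw [Subgroup.mem_centralizer_iff]
      intro z hz
      rw [Subgroup.mem_centralizer_iff] at hyc
      have h10 := hyc (e z) ((hmem _).2 (by rw [e.symm_apply_apply]; exact hz))
      have h11 := congrArg e.symm h10
      rwa [map_mul, map_mul, e.symm_apply_apply] at h11)
    have h10 := congrArg e h9
    rwa [e.apply_symm_apply, map_one] at h10

/-- from `Sb` to the conclusion of `FieldFix` -/
theorem Sb.fieldFix {p : ℕ} {g : ℕ → OrdDiv.Grp} {q : ℕ} {Y : Type u} [Group Y]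
    (h : ∀ x : MulAut Y, orderOf x = p → (¬ ∃ g, x = MulAut.conj g) → p ∣ Nat.card Y →
      (∀ P : Sylow p Y, IsCyclic ↥(P : Subgroup Y)) →
      ∃ (q₀ : ℕ) (N₀ : Type) (_ : Group N₀), q = q₀ ^ p ∧ IsSimpleGroup N₀ ∧ (¬ IsMulCommutative N₀) ∧
        (∀ (N : Type u) [Group N], (N ≃* N₀) → OrdDiv.Real (g q₀) N ∨ H975.FieldDef.Small (g q₀) (Nat.card N)) ∧
        Sb x N₀) :
    H975.FieldDef.FieldFix p g q Y := by
  intro x hx hx1 hd hc
  obtain ⟨q₀, N₀, _, hq, hs, hna, hr, N, h1, h2, ⟨e⟩, h4⟩ := h x hx hx1 hd hc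
  refine ⟨q₀, N, hq, h1, h2, e.isSimpleGroup, ?_, h4, hr _ e⟩
  intro hcm
  refine hna ⟨⟨fun a b => e.symm.injective ?_⟩⟩
  rw [map_mul, map_mul]
  exact hcm.is_comm.comm _ _

section Std

variable {Γ : Type u} {Y : Type v} {Y₀ : Type w} [Group Γ] [Group Y] [Group Y₀] {p : ℕ}
  {ι : Y →* Γ} (hι : Function.Injective ι) {ι₀ : Y₀ →* Γ} (hι₀ : Function.Injective ι₀)

include hι hι₀ in
/-- **`x` induced by `φ`.** -/
theorem sb_of_std {φ : MulAut Γ} {x : MulAut Y} (hx : ∀ y, ι (x y) = φ (ι y))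
    (h1 : ∀ a, φ (ι₀ a) = ι₀ a) (h2 : ∀ a, ι₀ a ∈ ι.range)
    (h3 : ∀ y, φ y = y → ∀ a, y * ι₀ a * y⁻¹ ∈ ι₀.range)
    (h5 : ∀ y : Γ, (∀ a, y * ι₀ a = ι₀ a * y) → y = 1)
    (N₀ : Subgroup Y₀) (hch : N₀.Characteristic)
    (hNz : ∀ w, w ∈ centralizer (N₀ : Set Y₀) → w = 1) : Sb x ↥N₀ := by
  -- the embedding of `Y₀` in `Y`
  obtain ⟨j, hj⟩ : ∃ j : Y₀ →* Y, ∀ a, ι (j a) = ι₀ a := by
    refine ⟨((MonoidHom.ofInjective hι).symm.toMonoidHom).comp (ι₀.codRestrict ι.range h2), fun a => ?_⟩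
    have h6 := (MonoidHom.ofInjective hι).apply_symm_apply (ι₀.codRestrict ι.range h2 a)
    exact congrArg Subtype.val h6
  have hjinj : Function.Injective j := fun a b hab => hι₀ (by rw [← hj, ← hj, hab])
  have hxj : ∀ a, x (j a) = j a := fun a => hι (by rw [hx, hj, h1])
  have hfx : ∀ y, x y = y → φ (ι y) = ι y := fun y hy => by rw [← hx, hy]
  -- the fixed points act on `Y₀`
  have hF : ∀ y, x y = y → ∃ F : MulAut Y₀, ∀ a, j (F a) = y * j a * y⁻¹ := by
    intro y hy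
    have key : ∀ y, x y = y → ∃ F : Y₀ →* Y₀, ∀ a, j (F a) = y * j a * y⁻¹ := by
      intro y hy
      have h6 : ∀ a, ((MulAut.conj (ι y)).toMonoidHom.comp ι₀) a ∈ ι₀.range := fun a => h3 _ (hfx y hy) a
      refine ⟨((MonoidHom.ofInjective hι₀).symm.toMonoidHom).comp
        (((MulAut.conj (ι y)).toMonoidHom.comp ι₀).codRestrict ι₀.range h6), fun a => hι ?_⟩
      have h7 := congrArg Subtype.val ((MonoidHom.ofInjective hι₀).apply_symm_apply
        ((((MulAut.conj (ι y)).toMonoidHom.comp ι₀).codRestrict ι₀.range h6) a))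
      rw [hj, map_mul, map_mul, map_inv, hj]
      exact h7
    obtain ⟨F, hF⟩ := key y hy
    obtain ⟨F', hF'⟩ := key y⁻¹ (by rw [map_inv, hy])
    refine ⟨MonoidHom.toMulEquiv F F' (MonoidHom.ext fun a => hjinj ?_) (MonoidHom.ext fun a => hjinj ?_), hF⟩
    · show j (F' (F a)) = j a
      rw [hF', hF]; group
    · show j (F (F' a)) = j a
      rw [hF, hF']; group
  have hmem : ∀ y : Y, y ∈ N₀.map j ↔ ∃ a ∈ N₀, j a = y := fun y => Iff.rfl
  have eN : ↥N₀ ≃* ↥(N₀.map j) := N₀.equivMapOfInjective j hjinj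
  have hcomp : ∀ (F : MulAut Y₀) (a : Y₀), F a ∈ N₀ ↔ a ∈ N₀ := by
    intro F a
    have h6 := hch.fixed F
    constructor
    · intro h7
      rw [← h6]
      exact h7
    · intro h7
      rw [← h6] at h7
      exact h7
  refine ⟨N₀.map j, ?_, ?_, ⟨eN.symm⟩, ?_⟩
  · rintro _ ⟨a, -, rfl⟩
    exact hxj a
  · intro y hy
    obtain ⟨F, hF⟩ := hF y hy
    rw [Subgroup.mem_normalizer_iff]
    intro z
    constructor
    · rintro ⟨a, ha, rfl⟩
      exact ⟨F a, (hcomp F a).2 ha, hF a⟩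
    · rintro ⟨a, ha, h6⟩
      refine ⟨F⁻¹ a, ?_, ?_⟩
      · have h7 := (hcomp F (F⁻¹ a)).1 (by rw [MulAut.apply_inv_self]; exact ha)
        exact h7
      · have h7 := hF (F⁻¹ a)
        rw [MulAut.apply_inv_self, h6] at h7
        have h8 := mul_left_cancel (mul_right_cancel h7)
        exact h8.symm
  · intro y hy hyc
    obtain ⟨F, hF⟩ := hF y hy
    have hyn : ∀ n ∈ N₀, F n = n := by
      intro n hn
      apply hjinj
      rw [hF]
      have h6 := Subgroup.mem_centralizer_iff.1 hyc (j n) ⟨n, hn, rfl⟩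
      rw [← h6]; group
    have hF1 : ∀ w, F w = w := by
      intro w
      have h6 : F w * w⁻¹ = 1 := by
        apply hNz
        rw [Subgroup.mem_centralizer_iff]
        intro n hn
        -- `w⁻¹ n w ∈ N₀`
        have hNn : N₀.Normal := inferInstance
        have h7 : w⁻¹ * n * w ∈ N₀ := by
          have := hNn.conj_mem n hn w⁻¹
          rwa [inv_inv] at this
        have h8 := hyn _ h7
        have h9 : F w⁻¹ * F n * F w = w⁻¹ * n * w := by rw [← map_mul, ← map_mul, h8]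
        rw [hyn n hn, map_inv] at h9
        calc n * (F w * w⁻¹) = F w * ((F w)⁻¹ * n * F w) * w⁻¹ := by group
          _ = F w * w⁻¹ * n := by rw [h9]; group
      exact mul_inv_eq_one.1 h6
    have h6 : ι y = 1 := by
      apply h5
      intro a
      have h7 := hF a
      rw [hF1 a] at h7
      have h8 := congrArg ι h7
      rw [map_mul, map_mul, map_inv, hj] at h8
      rw [eq_mul_inv_iff_mul_eq] at h8
      exact h8.symm
    exact hι (by rw [h6, map_one])
variable [Fact p.Prime]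

theorem fix_pow_iff {x : MulAut Y} (hx : x ^ p = 1) {i : ℕ} (hi : i.Coprime p) (y : Y) : (x ^ i) y = y ↔ x y = y := by
  have h0 : ∀ (z : MulAut Y) (m : ℕ), z y = y → (z ^ m) y = y := by
    intro z m hz
    induction m with
    | zero => rw [pow_zero]; rfl
    | succ m ih => rw [pow_succ, MulAut.mul_apply, hz, ih]
  refine ⟨fun h => ?_, fun h => h0 x i h⟩
  obtain ⟨m, -, hm⟩ := Nat.exists_mul_mod_eq_one_of_coprime hi (Fact.out : p.Prime).one_lt
  have h1 : (x ^ i) ^ m = x := by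
    rw [← pow_mul]
    have h2 : x ^ (i * m) = x ^ ((i * m) % p) := by
      conv_lhs => rw [← Nat.div_add_mod (i * m) p]
      rw [pow_add, pow_mul, hx, one_pow, one_mul]
    rw [h2, hm, pow_one]
  have h2 := h0 (x ^ i) m h
  rwa [h1] at h2

include hι hι₀ in
/-- **`x ^ i` induced by `z⁻¹ φ z`, `σ = φ ^ p`, `σ` commutes with the conjugation by `z`.** -/
theorem sb_of_fam {φ σ : MulAut Γ} {x : MulAut Y} (hxp : x ^ p = 1) (hZ : ∀ y : Γ, (∀ g, y * g = g * y) → y = 1)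
    (hY : ∀ y, σ y = y → ∀ a, y * ι a * y⁻¹ ∈ ι.range)
    {i : ℕ} (hi : i.Coprime p) {c : Γ} (hc : (MulAut.conj c * φ) ^ p = σ) (hφ : φ ^ p = σ)
    (hlang : ∃ z, c = z⁻¹ * φ z)
    (hxi : ∀ a, ι ((x ^ i) a) = (MulAut.conj c * φ) (ι a))
    (h1 : ∀ a, φ (ι₀ a) = ι₀ a) (h2 : ∀ a, ι₀ a ∈ ι.range)
    (h3 : ∀ y, φ y = y → ∀ a, y * ι₀ a * y⁻¹ ∈ ι₀.range)
    (h5 : ∀ y : Γ, (∀ a, y * ι₀ a = ι₀ a * y) → y = 1)
    (N₀ : Subgroup Y₀) (hch : N₀.Characteristic)
    (hNz : ∀ w, w ∈ centralizer (N₀ : Set Y₀) → w = 1) : Sb x ↥N₀ := by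
  obtain ⟨z, hz⟩ := hlang
  have hcφ : MulAut.conj c * φ = (MulAut.conj z)⁻¹ * φ * MulAut.conj z := by
    apply MulEquiv.ext
    intro g
    rw [MulAut.mul_apply, MulAut.mul_apply, MulAut.mul_apply, ← map_inv, MulAut.conj_apply, MulAut.conj_apply,
      MulAut.conj_apply, hz, map_mul, map_mul, map_inv]
    group
  have hpow : ∀ m : ℕ, ((MulAut.conj z)⁻¹ * φ * MulAut.conj z) ^ m = (MulAut.conj z)⁻¹ * φ ^ m * MulAut.conj z := by
    intro m
    induction m with
    | zero => rw [pow_zero, pow_zero]; group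
    | succ m ih => rw [pow_succ, ih, pow_succ]; group
  have hσz : σ z = z := by
    rw [hcφ, hpow, hφ] at hc
    have h6 : z⁻¹ * σ z = 1 := by
      apply hZ
      intro g
      have h7 := DFunLike.congr_fun hc (σ⁻¹ g)
      rw [MulAut.mul_apply, MulAut.mul_apply, ← map_inv, MulAut.conj_apply, MulAut.conj_apply, map_mul, map_mul,
        MulAut.apply_inv_self, map_inv, inv_inv] at h7
      have h8 : z⁻¹ * (σ z * g * (σ z)⁻¹) * z = g := h7
      calc z⁻¹ * σ z * g = (z⁻¹ * (σ z * g * (σ z)⁻¹) * z) * (z⁻¹ * σ z) := by group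
        _ = g * (z⁻¹ * σ z) := by rw [h8]
    exact (inv_mul_eq_one.1 h6).symm
  -- the automorphism of `Y` given by `z`
  obtain ⟨e, he⟩ : ∃ e : MulAut Y, ∀ a, ι (e a) = z * ι a * z⁻¹ := by
    have key : ∀ y, σ y = y → ∃ F : Y →* Y, ∀ a, ι (F a) = y * ι a * y⁻¹ := by
      intro y hy
      have h6 : ∀ a, ((MulAut.conj y).toMonoidHom.comp ι) a ∈ ι.range := fun a => hY _ hy a
      refine ⟨((MonoidHom.ofInjective hι).symm.toMonoidHom).comp
        (((MulAut.conj y).toMonoidHom.comp ι).codRestrict ι.range h6), fun a => ?_⟩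
      exact congrArg Subtype.val ((MonoidHom.ofInjective hι).apply_symm_apply
        ((((MulAut.conj y).toMonoidHom.comp ι).codRestrict ι.range h6) a))
    obtain ⟨F, hF⟩ := key z hσz
    obtain ⟨F', hF'⟩ := key z⁻¹ (by rw [map_inv, hσz])
    refine ⟨MonoidHom.toMulEquiv F F' (MonoidHom.ext fun a => hι ?_) (MonoidHom.ext fun a => hι ?_), hF⟩
    · show ι (F' (F a)) = ι a
      rw [hF', hF]; group
    · show ι (F (F' a)) = ι a
      rw [hF, hF']; group
  refine Sb.of_fix (x' := x ^ i) (fun y => (fix_pow_iff hxp hi y).symm) ?_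
  refine Sb.congr e⁻¹ (x := e * x ^ i * e⁻¹) (fun y => ?_)
    (sb_of_std hι hι₀ (φ := φ) (fun y => ?_) h1 h2 h3 h5 N₀ hch hNz)
  · show (x ^ i) (e⁻¹ y) = e⁻¹ (e ((x ^ i) (e⁻¹ y)))
    rw [MulAut.inv_apply_self]
  · rw [MulAut.mul_apply, MulAut.mul_apply, he, hxi, hcφ]
    have h6 : ι y = z * ι (e⁻¹ y) * z⁻¹ := by rw [← he, MulAut.apply_inv_self]
    rw [h6, MulAut.mul_apply, MulAut.mul_apply, ← map_inv, MulAut.conj_apply, MulAut.conj_apply, inv_inv]
    group

end Std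

end Cfsg.Agent.H192.Fc
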