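import Cfsg.Agent.H203.LSDef

/-!
# Lower bounds for the degrees and linear groups with a simple central quotient (helper192)
-/

set_option autoImplicit false

namespace Cfsg.Agent.H192.Singer

open Cfsg.Agent.H203
open scoped commutatorElement

universe u v w

theorem commutator_eq_top {T : Type u} [Group T] [IsSimpleGroup T] (hna : ∃ x y : T, x * y ≠ y * x) :
    commutator T = ⊤ := by
  have hn : (commutator T).Normal := inferInstance
  rcases hn.eq_bot_or_eq_top with h | h
  · exfalso
    obtain ⟨x, y, hxy⟩ := hna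
    apply hxy
    have h1 : ⁅x, y⁆ ∈ commutator T := Subgroup.commutator_mem_commutator (Subgroup.mem_top _) (Subgroup.mem_top _)
    rw [h, Subgroup.mem_bot, commutatorElement_eq_one_iff_mul_comm] at h1
    exact h1
  · exact h

theorem exists_mem_commutator {L : Type v} [Group L] {T : Type u} [Group T] (φ : L →* T)
    (hφ : Function.Surjective φ) (hT : commutator T = ⊤) (t : T) : ∃ k ∈ commutator L, φ k = t := by
  have h1 : (commutator L).map φ = ⊤ := by
    rw [commutator_def, Subgroup.map_commutator, ← MonoidHom.range_eq_map, MonoidHom.range_eq_top.2 hφ]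
    exact hT
  have h2 : t ∈ (commutator L).map φ := by rw [h1]; trivial
  exact h2

theorem commutator_perfect {L : Type v} [Group L] {T : Type u} [Group T] (φ : L →* T)
    (hφ : Function.Surjective φ) (hker : φ.ker ≤ Subgroup.center L) (hT : commutator T = ⊤) :
    commutator (commutator L) = ⊤ := by
  have h1 : commutator L ≤ ⁅commutator L, commutator L⁆ := by
    conv_lhs => rw [commutator_def]
    rw [Subgroup.commutator_le]
    intro a _ b _
    obtain ⟨a', ha', ha⟩ := exists_mem_commutator φ hφ hT (φ a)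
    obtain ⟨b', hb', hb⟩ := exists_mem_commutator φ hφ hT (φ b)
    have hz1 : a'⁻¹ * a ∈ Subgroup.center L := hker (MonoidHom.mem_ker.2 (by rw [map_mul, map_inv, ha, inv_mul_cancel]))
    have hz2 : b'⁻¹ * b ∈ Subgroup.center L := hker (MonoidHom.mem_ker.2 (by rw [map_mul, map_inv, hb, inv_mul_cancel]))
    have e1 : a = a' * (a'⁻¹ * a) := by group
    have e2 : b = b' * (b'⁻¹ * b) := by group
    have h3 : ⁅a, b⁆ = ⁅a', b'⁆ := by
      generalize a'⁻¹ * a = z at hz1 e1
      generalize b'⁻¹ * b = y at hz2 e2
      subst e1 e2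
      rw [Subgroup.mem_center_iff] at hz1 hz2
      rw [commutatorElement_def, commutatorElement_def]
      have c1 := hz1
      calc a' * z * (b' * y) * (a' * z)⁻¹ * (b' * y)⁻¹ = a' * (z * (b' * y)) * z⁻¹ * a'⁻¹ * y⁻¹ * b'⁻¹ := by group
        _ = a' * (b' * y * z) * z⁻¹ * a'⁻¹ * y⁻¹ * b'⁻¹ := by rw [← hz1 (b' * y)]
        _ = a' * b' * (y * a'⁻¹) * y⁻¹ * b'⁻¹ := by group
        _ = a' * b' * (a'⁻¹ * y) * y⁻¹ * b'⁻¹ := by rw [hz2 a'⁻¹]
        _ = a' * b' * a'⁻¹ * b'⁻¹ := by group
    rw [h3]
    exact Subgroup.commutator_mem_commutator ha' hb'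
  have h2 : (commutator (commutator L)).map (commutator L).subtype = commutator L := by
    rw [Subgroup.map_subtype_commutator]
    exact le_antisymm (Subgroup.commutator_le_left _ _) h1
  rw [← top_le_iff]
  intro x _
  have h3 : (x : L) ∈ (commutator (commutator L)).map (commutator L).subtype := by rw [h2]; exact x.2
  obtain ⟨y, hy, hyx⟩ := h3
  have : y = x := Subtype.ext hyx
  rwa [← this]

/-- **A lower bound for projective representations bounds the degree of a linear group with simple central
quotient.** -/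
theorem ls_le {T : Type u} [Group T] [IsSimpleGroup T] (hna : ∃ x y : T, x * y ≠ y * x) {r d : ℕ}
    {F : Type w} [Field F] [Finite F] (h : LS.LS.{u, w, w} r d T) (hr : (r : F) ≠ 0) {n : ℕ}
    {L : Subgroup (Matrix.GeneralLinearGroup (Fin n) F)} (φ : L →* T) (hφ : Function.Surjective φ)
    (hker : φ.ker ≤ Subgroup.center L) : d ≤ n := by
  have hT := commutator_eq_top hna
  have hfin : Finite L := inferInstance
  have hfin2 : Finite (commutator L) := inferInstance
  refine h (commutator L) (φ.comp (commutator L).subtype) ?_ ?_ (commutator_perfect φ hφ hker hT) F hr n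
    (L.subtype.comp (commutator L).subtype) ?_
  · intro t
    obtain ⟨k, hk, hkt⟩ := exists_mem_commutator φ hφ hT t
    exact ⟨⟨k, hk⟩, hkt⟩
  · intro x hx
    have h1 : (x : L) ∈ Subgroup.center L := hker (MonoidHom.mem_ker.2 (MonoidHom.mem_ker.1 hx))
    rw [Subgroup.mem_center_iff] at h1 ⊢
    intro y
    exact Subtype.ext (h1 y)
  · intro h0
    obtain ⟨x, y, hxy⟩ := hna
    obtain ⟨a, ha, hax⟩ := exists_mem_commutator φ hφ hT x
    obtain ⟨b, hb, hby⟩ := exists_mem_commutator φ hφ hT y
    apply hxy
    have h1 : a = 1 := by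
      have h2 := DFunLike.congr_fun h0 ⟨a, ha⟩
      exact Subtype.ext h2
    rw [← hax, ← hby, h1, map_one, one_mul, mul_one]

end Cfsg.Agent.H192.Singer
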