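import Cfsg.Agent.H192.FcAbs
import Cfsg.Agent.H153.ExcTor

/-!
# Fixed points of field automorphisms: the untwisted groups (task 703)

* `sb_untw` : `x : MulAut (D.group F)` of odd prime order `p`, not inner, `p` prime to the index `d` of the simply
  connected torus: `|F| = |F₀| ^ p`, and `Sb x N₀` for every characteristic subgroup `N₀` of `D.group F₀` with trivial
  centraliser.
-/

set_option autoImplicit false
set_option linter.unusedSectionVars false

namespace Cfsg.Agent.H192.Fc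

open CoxeterSystem Cfsg Cfsg.Lie Cfsg.Lie.ChevalleyDatum
open Cfsg.Agent.ChevalleyStructure Cfsg.Agent.ChevalleyStructure.Elts Cfsg.Agent.ChevalleyStructure.CoxeterGeom
  Cfsg.Agent.ChevalleyStructure.CoxeterGeomTypes Cfsg.Agent.ChevalleyStructure.NPerm
open Cfsg.Agent.Tits.Roots Cfsg.Agent.Tits.Core Cfsg.Agent.Nodes Cfsg.Agent.Nodes.Reps Cfsg.Agent.Nodes.BNOf
  Cfsg.Agent.Nodes.RGDChev Cfsg.Agent.Nodes.Bruhat Cfsg.Agent.Nodes.NormalForm
open Cfsg.Agent.KFacts.RgdField Cfsg.Agent.KFacts.RgdChevCoord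
open Cfsg.Agent.BpExc Cfsg.Agent.BpExc.FamField Cfsg.Agent.BpExc.TorCent Cfsg.Agent.BpExc.TorChev Cfsg.Agent.BpExc.Tow
  Cfsg.Agent.BpExc.TowChev Cfsg.Agent.BpExc.Fr Cfsg.Agent.BpExc.Pair Cfsg.Agent.BpExc.LangFr Cfsg.Agent.GpExc.Field
  Cfsg.Agent.BpExc.FamUntw Cfsg.Agent.BpExc.FamInst Cfsg.Agent.BpExc.FamExt Cfsg.Agent.CpAut.RgdSub
  Cfsg.Agent.CpAut.RgdUntw

universe u

variable {r : ℕ} [Fact r.Prime] {p : ℕ} [Fact p.Prime]

/-- the subfield of index `p` -/
theorem exists_subfield (r : ℕ) [Fact r.Prime] {F : Type u} [Field F] [Fintype F] [CharP F r] {m n : ℕ} (hm : 0 < m)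
    (hmn : m * p = n) (hn : Nat.card F = r ^ n) :
    ∃ F₀ : Subfield F, Nat.card ↥F₀ = r ^ m ∧ Nat.card F = Nat.card ↥F₀ ^ p := by
  have hpp : p.Prime := Fact.out
  have h1 : (frb F r m) ^ p = 1 := by
    rw [frb_pow, hmn]
    ext a
    rw [frb_apply, (forall_pow_iff r hn n).2 dvd_rfl a]
    rfl
  have h2 : frb F r m ≠ 1 := by
    intro h
    have h3 : n ∣ m := by
      rw [← forall_pow_iff r hn]
      intro a
      rw [← frb_apply, h]
      rfl
    have h4 := Nat.le_of_dvd hm h3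
    have h5 : m * 2 ≤ m * p := Nat.mul_le_mul_left m hpp.two_le
    omega
  have h3 := card_fixF hpp h1 h2
  refine ⟨fixF (frb F r m), ?_, h3⟩
  have h4 : Nat.card ↥(fixF (frb F r m)) ^ p = (r ^ m) ^ p := by
    rw [← h3, hn, ← pow_mul, hmn]
  exact Nat.pow_left_injective hpp.ne_zero h4

variable {D : ChevalleyDatum} {l : ℕ} {M : CoxeterMatrix (Fin l)} (hp : IsType D l M)

theorem center_eq_bot {G : Type u} [Group G] (h : IsSimpleGroup G ∧ ¬ IsMulCommutative G) : Subgroup.center G = ⊥ := by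
  have := h.1
  refine KFacts.RgdLieCharP.center_eq_bot ?_
  by_contra hcon
  push Not at hcon
  exact h.2 ⟨⟨hcon⟩⟩

include hp in
/-- **The outer automorphisms of order `p` of the untwisted groups.** -/
theorem sb_untw {F : Type} [Field F] [Fintype F] [CharP F r] {d : ℕ} {B : Fin l → Fin l → ℤ}
    (hB : InvC D l d B) (hd : d ≠ 0) (hdp : d.Coprime p) (hM : SymTwo M)
    (hk1 : IsSimpleGroup ↥(D.group (AlgebraicClosure (ZMod r))) ∧
      ¬ IsMulCommutative ↥(D.group (AlgebraicClosure (ZMod r))))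
    (hF1 : IsSimpleGroup ↥(D.group F) ∧ ¬ IsMulCommutative ↥(D.group F)) (hp2 : p ≠ 2)
    {x : MulAut ↥(D.group F)} (hx : orderOf x = p) (hx1 : ¬ ∃ g, x = MulAut.conj g) :
    ∃ F₀ : Subfield F, Nat.card F = Nat.card ↥F₀ ^ p ∧
      ((∀ y : ↥(D.group ↥F₀), (∀ z, y * z = z * y) → y = 1) ∧
      ∀ N₀ : Subgroup ↥(D.group ↥F₀), N₀.Characteristic →
        (∀ w, w ∈ Subgroup.centralizer (N₀ : Set ↥(D.group ↥F₀)) → w = 1) → Sb x ↥N₀) := by
  classical
  have hpp : p.Prime := Fact.out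
  obtain ⟨f⟩ := RowsUntw.exists_emb r F
  obtain ⟨n, hn0, hn⟩ := exists_card (F := F) r
  have hk : LocFin (AlgebraicClosure (ZMod r)) := locFin_of_isAlgebraic r _
  have hZ := center_eq_bot hk1
  have hZF := center_eq_bot hF1
  have hFs := hF1.1
  have hW := finite_W hp M.toCoxeterSystem
  have R := rgd (K := F) hp M.toCoxeterSystem r
  have hG1 : RGD.Sup (XX D l F) {x | IsRoot M.toCoxeterSystem hp.isCartan x} = ⊤ := G1_eq_top hp M.toCoxeterSystem
  have hconn := KFacts.RgdLieCharP.conn_of_simple R hG1 hZF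
  have hl : Nonempty (Fin l) := by
    rw [← Fin.pos_iff_nonempty]
    rcases Nat.eq_zero_or_pos l with h0 | h0
    · exfalso
      subst h0
      have h1 : (⊤ : Subgroup ↥(D.group F)) = ⊥ := by
        rw [← hG1, eq_bot_iff]
        refine RGD.Sup_le fun x hx => ?_
        obtain ⟨w, i, -⟩ := hx
        exact i.elim0
      apply hF1.2
      have h2 : ∀ g : ↥(D.group F), g = 1 := fun g => by
        have : g ∈ (⊤ : Subgroup ↥(D.group F)) := Subgroup.mem_top g
        rwa [h1, Subgroup.mem_bot] at this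
      exact ⟨⟨fun a b => by rw [h2 a, h2 b]⟩⟩
    · exact h0
  have hxp : x ^ p = 1 := by rw [← hx, pow_orderOf_eq_one]
  have hroots : ∀ c : F, c ≠ 0 → ∃ b : AlgebraicClosure (ZMod r), b ^ d = f c := fun c _ =>
    IsAlgClosed.exists_pow_nat_eq (f c) (Nat.pos_of_ne_zero hd)
  -- the Frobenius maps
  have hfrφ : ∀ (m : ℕ) (t : AlgebraicClosure (ZMod r)),
      ((frb (AlgebraicClosure (ZMod r)) r m : AlgebraicClosure (ZMod r) ≃+* AlgebraicClosure (ZMod r)) :
      AlgebraicClosure (ZMod r) →+* AlgebraicClosure (ZMod r)) t = t ^ r ^ m := fun m t => frb_apply _ r m t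
  have hσφ : ∀ (m : ℕ) (y : ↥(D.group (AlgebraicClosure (ZMod r)))),
      ((phi D (AlgebraicClosure (ZMod r)) r m y : ↥(D.group (AlgebraicClosure (ZMod r)))) :
        GL D.Idx (AlgebraicClosure (ZMod r))) = glMap D
          ((frb (AlgebraicClosure (ZMod r)) r m : AlgebraicClosure (ZMod r) ≃+* AlgebraicClosure (ZMod r)) :
      AlgebraicClosure (ZMod r) →+* AlgebraicClosure (ZMod r)) (y : GL D.Idx (AlgebraicClosure (ZMod r))) := by
    intro m y
    apply Units.ext
    rfl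
  have hq : Fintype.card F = r ^ n := by rw [← hn, Nat.card_eq_fintype_card]
  rcases FamUntw.cases hp hk r f hB hd hroots hl hconn hZ hpp (hM.eq_one hpp hp2) hn hxp with h | h
  · exfalso
    obtain ⟨y, hyp, hσy, hy⟩ := h
    obtain ⟨y₀, rfl⟩ := H153.Exc.mem_untw (f := f) hp hB (φ := ((frb (AlgebraicClosure (ZMod r)) r n :
      AlgebraicClosure (ZMod r) ≃+* AlgebraicClosure (ZMod r)) : AlgebraicClosure (ZMod r) →+*
      AlgebraicClosure (ZMod r))) (fun t => by rw [hq]; exact hfrφ n t) (by rw [← hσφ, hσy]) hdp hyp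
    refine hx1 ⟨y₀, MulEquiv.ext fun a => emb_injective hp.inList f ?_⟩
    rw [hy a, MulAut.conj_apply, map_mul, map_mul, map_inv]
  · obtain ⟨i, m, hi, hm0, hmn, c, hc, h⟩ := h
    obtain ⟨F₀, hF₀, hFF⟩ := exists_subfield r hm0 hmn hn
    have hchar : CharP ↥F₀ r := (RingHom.charP_iff F₀.subtype F₀.subtype.injective r).2 inferInstance
    have hq₀ : Fintype.card ↥F₀ = r ^ m := by rw [← hF₀, Nat.card_eq_fintype_card]
    obtain ⟨f₀, hf₀⟩ : ∃ f₀ : ↥F₀ →+* AlgebraicClosure (ZMod r), f₀ = f.comp F₀.subtype := ⟨_, rfl⟩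
    have h5 : ∀ y : ↥(D.group (AlgebraicClosure (ZMod r))),
        (∀ a, y * emb hp.inList f₀ a = emb hp.inList f₀ a * y) → y = 1 :=
      fun y hy => eq_one_of_comm hp hk r f₀ hZ hy
    refine ⟨F₀, hFF, fun y hy => emb_injective hp.inList f₀ ?_, fun N₀ hch hNz => ?_⟩
    · rw [map_one]
      exact h5 _ fun a => by rw [← map_mul, hy, map_mul]
    have hφφ : phi D (AlgebraicClosure (ZMod r)) r m ^ p = phi D (AlgebraicClosure (ZMod r)) r n := by
      rw [phi_pow, hmn]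
    refine sb_of_fam (ι := emb hp.inList f) (emb_injective hp.inList f) (ι₀ := emb hp.inList f₀)
      (emb_injective hp.inList f₀) (φ := phi D (AlgebraicClosure (ZMod r)) r m)
      (σ := phi D (AlgebraicClosure (ZMod r)) r n) hxp (fun y hy => ?_) (fun y hy a => ?_) hi hc hφφ ?_ h
      (fun a => phi_emb hp r f₀ hF₀ a) (fun a => ?_) (fun y hy a => ?_) h5 N₀ hch hNz
    · have h6 : y ∈ Subgroup.center ↥(D.group (AlgebraicClosure (ZMod r))) :=
        Subgroup.mem_center_iff.2 fun g => (hy g).symm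
      rwa [hZ, Subgroup.mem_bot] at h6
    · obtain ⟨b, hb⟩ := Emb.conj_mem_range hp.inList (f := f) (φ := ((frb (AlgebraicClosure (ZMod r)) r n :
        AlgebraicClosure (ZMod r) ≃+* AlgebraicClosure (ZMod r)) : AlgebraicClosure (ZMod r) →+*
        AlgebraicClosure (ZMod r))) (fun t => by rw [hq]; exact hfrφ n t) (hσφ n) hy ⟨a, rfl⟩
      exact ⟨b, hb⟩
    · obtain ⟨z, hz⟩ := lang_all hp M.toCoxeterSystem hm0 (phi_isFrob r m)
        (phi_fr hp M.toCoxeterSystem r hk m) 1 c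
      rw [map_one, one_mul] at hz
      exact ⟨z, hz⟩
    · refine ⟨emb hp.inList F₀.subtype a, ?_⟩
      apply Subtype.ext
      apply Units.ext
      rw [coe_emb, coe_emb, coe_emb, coe_glMap, coe_glMap, coe_glMap, Matrix.map_map, hf₀]
      rfl
    · obtain ⟨b, hb⟩ := Emb.conj_mem_range hp.inList (f := f₀) (φ := ((frb (AlgebraicClosure (ZMod r)) r m :
        AlgebraicClosure (ZMod r) ≃+* AlgebraicClosure (ZMod r)) : AlgebraicClosure (ZMod r) →+*
        AlgebraicClosure (ZMod r))) (fun t => by rw [hq₀]; exact hfrφ m t) (hσφ m) hy ⟨a, rfl⟩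
      exact ⟨b, hb⟩

end Cfsg.Agent.H192.Fc
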