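import Cfsg.Agent.H192.KSp
import Cfsg.Agent.S0144
import Cfsg.Agent.S2142
import Cfsg.Agent.H732.SelfCent
import Cfsg.Agent.H867.KBound
import Cfsg.Agent.Lib.HallHigman
import Cfsg.Agent.Lib.FrattiniPGroup

/-!
# The subgroups of `Sp_6(2)` of order prime to 5 with `O_2 = 1` (task 2022 of TEAM KGV)
-/

set_option autoImplicit false

namespace Cfsg.Agent.H192.KSp

open Cfsg Subgroup Cfsg.Agent.H540.ClassNum Cfsg.Agent.H960.KGV Matrix

/-! ### `Sp_6(2) = PSp_6(2)` -/

theorem center_eq_bot : center (Sp 3) = ⊥ := by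
  have h := LieClassical.SympCenter.card_center (F := ZMod 2) (m := 3) (by norm_num)
  rw [ZMod.card] at h
  exact Subgroup.card_eq_one.1 (h.trans (by norm_num))

/-- `Sp_6(2) ≃ PSp_6(2)` -/
noncomputable def eP : Sp 3 ≃* Cfsg.PSp 3 (ZMod 2) :=
  MulEquiv.ofBijective (QuotientGroup.mk' (center (Sp 3)))
    ⟨by
      rw [← MonoidHom.ker_eq_bot_iff, QuotientGroup.ker_mk', center_eq_bot],
      QuotientGroup.mk'_surjective _⟩

theorem index_ge (R : Subgroup (Sp 3)) (h : R ≠ ⊤) : 28 ≤ R.index := by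
  have h1 := (Cfsg.Agent.S2142.result (F := ZMod 2) (ZMod.card 2) 3 le_rfl).1
    (R.map eP.toMonoidHom) (by
      intro h2
      apply h
      have h3 : R.map eP.toMonoidHom = (⊤ : Subgroup (Sp 3)).map eP.toMonoidHom := by
        rw [h2, ← MonoidHom.range_eq_map]
        exact (MonoidHom.range_eq_top.2 eP.surjective).symm
      exact Subgroup.map_injective eP.injective h3)
  have h4 : (R.map eP.toMonoidHom).index = R.index := Subgroup.index_map_equiv R eP
  rw [h4] at h1
  exact le_trans (by norm_num) h1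

/-- elements of order 7 are self-centralizing in `Sp_6(2)` -/
theorem cent7 {x y : Sp 3} (hx : orderOf x = 7) (h : Commute y x) : y ∈ zpowers x := by
  have f7 : Fact (Nat.Prime 7) := ⟨by norm_num⟩
  obtain ⟨R₀, h1, h2⟩ := Cfsg.Agent.H732.SelfCent.psp_selfcent 3 2 7 (by decide) (ZMod 2) (ZMod.card 2)
  have : Finite (Cfsg.PSp 3 (ZMod 2)) := Finite.of_equiv _ eP.toEquiv
  have hcard : Nat.card (Cfsg.PSp 3 (ZMod 2)) = 1451520 := by
    rw [← Nat.card_congr eP.toEquiv, card3]
  have hidx : ∀ Q : Subgroup (Cfsg.PSp 3 (ZMod 2)), Nat.card Q = 7 → ¬ 7 ∣ Q.index := by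
    intro Q hQ hd
    have h3 := Q.card_mul_index
    rw [hQ, hcard] at h3
    have h4 : Q.index = 207360 := by omega
    rw [h4] at hd
    revert hd
    norm_num
  have hZ : Nat.card (zpowers (eP x)) = 7 := by
    rw [Nat.card_zpowers, MulEquiv.orderOf_eq, hx]
  have hp : ∀ Q : Subgroup (Cfsg.PSp 3 (ZMod 2)), Nat.card Q = 7 → IsPGroup 7 Q := fun Q hQ =>
    IsPGroup.of_card (n := 1) (by rw [hQ, pow_one])
  obtain ⟨g, hg⟩ := MulAction.exists_smul_eq (Cfsg.PSp 3 (ZMod 2))
    ((hp _ h1).toSylow (hidx _ h1)) ((hp _ hZ).toSylow (hidx _ hZ))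
  have hg' : ∀ z, z ∈ zpowers (eP x) ↔ ∃ r ∈ R₀, g * r * g⁻¹ = z := by
    intro z
    have h5 : z ∈ ((g • (hp _ h1).toSylow (hidx _ h1) : Sylow 7 _) : Subgroup (Cfsg.PSp 3 (ZMod 2))) ↔
        z ∈ zpowers (eP x) := by
      rw [hg]; rfl
    rw [← h5]
    constructor
    · rintro ⟨r, hr, rfl⟩
      exact ⟨r, hr, rfl⟩
    · rintro ⟨r, hr, rfl⟩
      exact ⟨r, hr, rfl⟩
  have hmem : eP y ∈ zpowers (eP x) := by
    rw [hg']
    refine ⟨g⁻¹ * eP y * g, ?_, by group⟩
    rw [← SetLike.mem_coe, ← h2, SetLike.mem_coe, mem_centralizer_iff]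
    intro r hr
    obtain ⟨k, hk⟩ := (hg' (g * r * g⁻¹)).2 ⟨r, hr, rfl⟩
    have hk' : (eP x) ^ k = g * r * g⁻¹ := hk
    have hcomm : Commute (eP y) (g * r * g⁻¹) := by
      rw [← hk']
      exact (h.map eP.toMonoidHom).zpow_right k
    have h6 := hcomm.eq
    calc r * (g⁻¹ * eP y * g) = g⁻¹ * ((g * r * g⁻¹) * eP y) * g := by group
      _ = g⁻¹ * (eP y * (g * r * g⁻¹)) * g := by rw [h6]
      _ = _ := by group
  obtain ⟨k, hk⟩ := hmem
  refine ⟨k, eP.injective ?_⟩
  have hk' : (eP x) ^ k = eP y := hk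
  rw [← hk']
  exact map_zpow eP x k

theorem caseSeven (R : Subgroup (Sp 3)) (h5 : ¬ 5 ∣ Nat.card R) (h7 : 7 ∣ Nat.card R) :
    Nat.card (ConjClasses R) ≤ 1502 := by
  have f7 : Fact (Nat.Prime 7) := ⟨by norm_num⟩
  obtain ⟨x, hx⟩ := exists_prime_orderOf_dvd_card' 7 h7
  have hR : R ≠ ⊤ := by
    rintro rfl
    apply h5
    rw [Subgroup.card_top, card3]
    norm_num
  have h1 := index_ge R hR
  have h2 := R.card_mul_index
  rw [card3] at h2
  have h3 : Nat.card R ≤ 51840 := by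
    by_contra hcon
    push Not at hcon
    have : 51841 * 28 ≤ Nat.card R * R.index := Nat.mul_le_mul hcon h1
    omega
  have h4 := Cfsg.Agent.H867.KBound.card_conjClasses_le (G := R) {7} (by simp; norm_num)
    (fun _ => x) (by simp [hx])
  rw [Finset.sum_singleton, Finset.prod_singleton] at h4
  have h6 : Nat.card (centralizer ({x} : Set R)) ≤ 7 := by
    have h7 : centralizer ({x} : Set R) ≤ zpowers x := by
      intro y hy
      rw [mem_centralizer_singleton_iff] at hy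
      have hy' : Commute (y : Sp 3) (x : Sp 3) := by
        have : Commute y x := hy
        exact this.map R.subtype
      obtain ⟨k, hk⟩ := cent7 (by rw [Subgroup.orderOf_coe, hx]) hy'
      exact ⟨k, Subtype.ext hk⟩
    calc Nat.card (centralizer ({x} : Set R)) ≤ Nat.card (zpowers x) := Subgroup.card_le_of_le h7
      _ = 7 := by rw [Nat.card_zpowers, hx]
  have h8 : Nat.card R / 7 ^ 2 ≤ 51840 / 7 ^ 2 := Nat.div_le_div_right h3
  norm_num at h8
  omega

/-! ### the Sylow 3-subgroups of `Sp_6(2)` are not abelian -/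

/-- an element of order 9 -/
def gM : Matrix (Fin 3 ⊕ Fin 3) (Fin 3 ⊕ Fin 3) (ZMod 2) :=
  fromBlocks !![1, 1, 0; 1, 1, 1; 0, 1, 0] !![0, 0, 1; 0, 1, 1; 1, 1, 1]
    !![0, 0, 1; 0, 1, 1; 1, 1, 1] !![1, 1, 1; 1, 0, 0; 1, 0, 1]

/-- an element of order 3 normalizing it -/
def hM : Matrix (Fin 3 ⊕ Fin 3) (Fin 3 ⊕ Fin 3) (ZMod 2) :=
  fromBlocks !![0, 0, 1; 1, 0, 0; 0, 1, 0] 0 0 !![0, 0, 1; 1, 0, 0; 0, 1, 0]

theorem gM_mem : gM ∈ symplecticGroup (Fin 3) (ZMod 2) := by
  rw [SymplecticGroup.mem_iff]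
  decide +kernel

theorem hM_mem : hM ∈ symplecticGroup (Fin 3) (ZMod 2) := by
  rw [SymplecticGroup.mem_iff]
  decide +kernel

def g₀ : Sp 3 := ⟨gM, gM_mem⟩
def h₀ : Sp 3 := ⟨hM, hM_mem⟩

theorem g₀_pow : g₀ ^ 9 = 1 := by
  apply Subtype.ext
  show gM ^ 9 = 1
  decide +kernel

theorem h₀_pow : h₀ ^ 3 = 1 := by
  apply Subtype.ext
  show hM ^ 3 = 1
  decide +kernel

theorem h₀_g₀ : h₀ * g₀ = g₀ ^ 7 * h₀ := by
  apply Subtype.ext
  show hM * gM = gM ^ 7 * hM
  decide +kernel

theorem not_comm : h₀ * g₀ ≠ g₀ * h₀ := by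
  intro h
  have h1 : hM * gM = gM * hM := congrArg Subtype.val h
  revert h1
  decide +kernel

theorem exists_pgroup : ∃ Q : Subgroup (Sp 3), IsPGroup 3 Q ∧ h₀ ∈ Q ∧ g₀ ∈ Q := by
  have hg : IsPGroup 3 (zpowers g₀) := by
    have h1 : Nat.card (zpowers g₀) ∣ 3 ^ 2 := by
      rw [Nat.card_zpowers]
      exact orderOf_dvd_of_pow_eq_one (by rw [show 3 ^ 2 = 9 by norm_num]; exact g₀_pow)
    obtain ⟨k, -, hk⟩ := (Nat.dvd_prime_pow Nat.prime_three).1 h1
    exact IsPGroup.of_card hk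
  have hh : IsPGroup 3 (zpowers h₀) := by
    have h1 : Nat.card (zpowers h₀) ∣ 3 ^ 1 := by
      rw [Nat.card_zpowers]
      exact orderOf_dvd_of_pow_eq_one (by rw [pow_one]; exact h₀_pow)
    obtain ⟨k, -, hk⟩ := (Nat.dvd_prime_pow Nat.prime_three).1 h1
    exact IsPGroup.of_card hk
  have hn : zpowers h₀ ≤ normalizer ((zpowers g₀ : Subgroup (Sp 3)) : Set (Sp 3)) := by
    rw [zpowers_le]
    have h1 : (zpowers g₀).map (MulAut.conj h₀).toMonoidHom ≤ zpowers g₀ := by
      rw [MonoidHom.map_zpowers, zpowers_le]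
      refine ⟨7, ?_⟩
      show g₀ ^ (7 : ℤ) = h₀ * g₀ * h₀⁻¹
      rw [h₀_g₀, mul_inv_cancel_right]
      rfl
    have h2 : (zpowers g₀).map (MulAut.conj h₀).toMonoidHom = zpowers g₀ := by
      apply Subgroup.eq_of_le_of_card_ge h1
      rw [Subgroup.card_map_of_injective (MulAut.conj h₀).injective]
    rw [mem_normalizer_iff]
    intro x
    constructor
    · intro hx
      rw [← h2]
      exact ⟨x, hx, rfl⟩
    · intro hx
      rw [← h2] at hx
      obtain ⟨y, hy, hyx⟩ := hx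
      have : y = x := (MulAut.conj h₀).injective hyx
      rwa [← this]
  exact ⟨_, IsPGroup.to_sup_of_normal_right' hh hg hn, (le_sup_left : _ ≤ zpowers h₀ ⊔ zpowers g₀)
    (mem_zpowers h₀), (le_sup_right : _ ≤ zpowers h₀ ⊔ zpowers g₀) (mem_zpowers g₀)⟩

/-- **a subgroup of order 81 of `Sp_6(2)` is not abelian** -/
theorem not_comm_81 (P : Subgroup (Sp 3)) (hP : Nat.card P = 81)
    (hc : ∀ x ∈ P, ∀ y ∈ P, x * y = y * x) : False := by
  have f3 : Fact (Nat.Prime 3) := ⟨Nat.prime_three⟩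
  obtain ⟨Q, hQ, hh, hg⟩ := exists_pgroup
  obtain ⟨S, hS⟩ := hQ.exists_le_sylow
  have hPp : IsPGroup 3 P := IsPGroup.of_card (n := 4) (by rw [hP]; norm_num)
  have hidx : ¬ 3 ∣ P.index := by
    have h1 := P.card_mul_index
    rw [hP, card3] at h1
    have h2 : P.index = 17920 := by omega
    rw [h2]
    norm_num
  obtain ⟨g, hgS⟩ := MulAction.exists_smul_eq (Sp 3) (hPp.toSylow hidx) S
  have hmem : ∀ z ∈ (S : Subgroup (Sp 3)), ∃ r ∈ P, g * r * g⁻¹ = z := by
    intro z hz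
    rw [← hgS] at hz
    obtain ⟨r, hr, hrz⟩ := hz
    exact ⟨r, hr, hrz⟩
  obtain ⟨a, ha, ha'⟩ := hmem h₀ (hS hh)
  obtain ⟨b, hb, hb'⟩ := hmem g₀ (hS hg)
  apply not_comm
  rw [← ha', ← hb']
  calc (g * a * g⁻¹) * (g * b * g⁻¹) = g * (a * b) * g⁻¹ := by group
    _ = g * (b * a) * g⁻¹ := by rw [hc a ha b hb]
    _ = _ := by group

/-- a nonabelian group of order 81 has at most 33 classes -/
theorem k_81 {P : Type*} [Group P] [Finite P] (hP : Nat.card P = 81)
    (hc : ∃ x y : P, x * y ≠ y * x) : Nat.card (ConjClasses P) ≤ 33 := by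
  classical
  have := Fintype.ofFinite P
  have f3 : Fact (Nat.Prime 3) := ⟨Nat.prime_three⟩
  have hPp : IsPGroup 3 P := IsPGroup.of_card (n := 4) (by rw [hP]; norm_num)
  have hZ : Nat.card (center P) ≤ 9 := by
    have h1 := (center P).card_mul_index
    rw [hP] at h1
    have h2 : (center P).index ≠ 1 := by
      intro h
      rw [Subgroup.index_eq_one] at h
      obtain ⟨x, y, hxy⟩ := hc
      apply hxy
      have : y ∈ center P := by rw [h]; trivial
      exact (mem_center_iff.1 this) x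
    have h3 : (center P).index ≠ 3 := by
      intro h
      have hcyc : IsCyclic (P ⧸ center P) := by
        apply isCyclic_of_prime_card (p := 3)
        rw [← Subgroup.index_eq_card, h]
      obtain ⟨x, y, hxy⟩ := hc
      exact hxy ((MonoidHom.isMulCommutative_of_isCyclic_of_ker_le_center (QuotientGroup.mk' (center P))
        (by rw [QuotientGroup.ker_mk'])).is_comm.comm x y)
    have h4 : Nat.card (center P) ∣ 3 ^ 4 := by
      rw [show 3 ^ 4 = 81 by norm_num, ← hP]; exact Subgroup.card_subgroup_dvd_card _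
    obtain ⟨k, hk, hk'⟩ := (Nat.dvd_prime_pow Nat.prime_three).1 h4
    rw [hk'] at h1 ⊢
    generalize (center P).index = i at h1 h2 h3
    interval_cases k
    · norm_num
    · norm_num
    · norm_num
    · exact absurd (by simp only [Nat.reducePow] at h1; omega) h3
    · exact absurd (by simp only [Nat.reducePow] at h1; omega) h2
  have h1 := card_conjClasses_mul_card (G := P)
  have h2 : ∀ x : P, cent x (⊤ : Subgroup P) ≤ 27 + if x ∈ center P then 54 else 0 := by
    intro x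
    rw [cent_top]
    split_ifs with hx
    · calc Nat.card (centralizer ({x} : Set P)) ≤ Nat.card P := Subgroup.card_le_card_group _
        _ = 27 + 54 := by rw [hP]
    · rw [add_zero]
      have h3 : Nat.card (centralizer ({x} : Set P)) ∣ 3 ^ 4 := by
        rw [show 3 ^ 4 = 81 by norm_num, ← hP]; exact Subgroup.card_subgroup_dvd_card _
      obtain ⟨k, hk, hk'⟩ := (Nat.dvd_prime_pow Nat.prime_three).1 h3
      rcases hk.lt_or_eq with hlt | rfl
      · rw [hk']
        calc 3 ^ k ≤ 3 ^ 3 := Nat.pow_le_pow_right (by norm_num) (by omega)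
          _ = 27 := by norm_num
      · exfalso
        apply hx
        have h4 : centralizer ({x} : Set P) = ⊤ := by
          apply Subgroup.eq_top_of_card_eq
          rw [hk', hP]; norm_num
        rw [mem_center_iff]
        intro y
        have : y ∈ centralizer ({x} : Set P) := by rw [h4]; trivial
        rw [mem_centralizer_singleton_iff] at this
        exact this
  have h3 : ∑ x : P, cent x (⊤ : Subgroup P) ≤ 81 * 27 + Nat.card (center P) * 54 := by
    refine (Finset.sum_le_sum fun x _ => h2 x).trans ?_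
    rw [Finset.sum_add_distrib, Finset.sum_const, Finset.card_univ, ← Nat.card_eq_fintype_card, hP,
      ← Finset.sum_filter, Finset.sum_const, smul_eq_mul, smul_eq_mul]
    have h4 : (Finset.univ.filter fun x : P => x ∈ center P).card = Nat.card (center P) := by
      rw [Nat.card_eq_fintype_card]
      exact (Fintype.card_subtype _).symm
    rw [h4]
  rw [hP] at h1
  omega

/-! ### the `{2, 3}`-groups -/

theorem pPrimeCore_eq_bot {R : Type} [Group R] [Finite R] {a b : ℕ} (hR : Nat.card R = 2 ^ a * 3 ^ b)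
    (h2 : PCoreTriv 2 R) : pPrimeCore 3 R = ⊥ := by
  apply h2 _ (Cfsg.Agent.Lib.Cores.pPrimeCore_normal 3)
  have h1 := Cfsg.Agent.Lib.Cores.pPrimeCore_coprime (G := R) 3
  have h3 : Nat.card (pPrimeCore 3 R) ∣ 2 ^ a := by
    apply Nat.Coprime.dvd_of_dvd_mul_right (Nat.Coprime.pow_right b h1)
    rw [← hR]
    exact Subgroup.card_subgroup_dvd_card _
  obtain ⟨k, -, hk⟩ := (Nat.dvd_prime_pow Nat.prime_two).1 h3
  exact IsPGroup.of_card hk

theorem two_part {F : Type*} [Group F] [Finite F] {n r : ℕ} (hF : Nat.card F = 3 ^ n)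
    (hr : (frattini F).index = 3 ^ r) (h3 : r ≤ 3) {a : ℕ} (ha : 2 ^ a ∣ Nat.card (MulAut F)) :
    a ≤ 5 := by
  have f3 : Fact (Nat.Prime 3) := ⟨Nat.prime_three⟩
  have h1 := ha.trans (Cfsg.Agent.H541.AutFrattini.card_aut_dvd hF hr)
  have h2 : 2 ^ a ∣ ∏ i ∈ Finset.range r, (3 ^ r - 3 ^ i) := by
    apply Nat.Coprime.dvd_of_dvd_mul_left _ h1
    exact Nat.Coprime.pow _ _ (by norm_num)
  by_contra hcon
  push Not at hcon
  have h4 : 2 ^ 6 ∣ ∏ i ∈ Finset.range r, (3 ^ r - 3 ^ i) := (pow_dvd_pow 2 hcon).trans h2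
  interval_cases r <;> revert h4 <;> decide

theorem caseTwoThree (R : Subgroup (Sp 3)) (h5 : ¬ 5 ∣ Nat.card R) (h7 : ¬ 7 ∣ Nat.card R)
    (h2 : PCoreTriv 2 R) : Nat.card (ConjClasses R) ≤ 1502 := by
  have f3 : Fact (Nat.Prime 3) := ⟨Nat.prime_three⟩
  have hd : Nat.card R ∣ 2 ^ 9 * 3 ^ 4 := by
    have h0 : Nat.card R ∣ 7 * (5 * (2 ^ 9 * 3 ^ 4)) := by
      have := Subgroup.card_subgroup_dvd_card R
      rw [card3] at this
      exact this
    have h1 := Nat.Coprime.dvd_of_dvd_mul_left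
      ((Nat.Prime.coprime_iff_not_dvd (by norm_num : Nat.Prime 7)).2 h7).symm h0
    exact Nat.Coprime.dvd_of_dvd_mul_left
      ((Nat.Prime.coprime_iff_not_dvd (by norm_num : Nat.Prime 5)).2 h5).symm h1
  obtain ⟨a, b, ha, hb, hR⟩ : ∃ a b, a ≤ 9 ∧ b ≤ 4 ∧ Nat.card R = 2 ^ a * 3 ^ b := by
    obtain ⟨u, v, hu, hv, huv⟩ := Nat.dvd_mul.1 hd
    obtain ⟨a, ha, rfl⟩ := (Nat.dvd_prime_pow Nat.prime_two).1 hu
    obtain ⟨b, hb, rfl⟩ := (Nat.dvd_prime_pow Nat.prime_three).1 hv
    exact ⟨a, b, ha, hb, huv.symm⟩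
  have hs : Group.IsSolvable R := S0144.result 2 3 a b Nat.prime_two Nat.prime_three hR
  have hC := Cfsg.Agent.Lib.HallHigman.centralizer_pCore_le_of_solvable (G := R) 3
    (pPrimeCore_eq_bot hR h2)
  have hn : (pCore 3 R).Normal := Cfsg.Agent.Lib.Cores.pCore_normal 3
  obtain ⟨n, hF⟩ := card_pCore (R := R) Nat.prime_three
  have hn4 : n ≤ 4 := by
    have h1 : 3 ^ n ∣ 2 ^ a * 3 ^ b := hR ▸ hF ▸ Subgroup.card_subgroup_dvd_card _
    have h3 : 3 ^ n ∣ 3 ^ b := Nat.Coprime.dvd_of_dvd_mul_left (Nat.Coprime.pow _ _ (by norm_num)) h1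
    exact ((Nat.pow_dvd_pow_iff_le_right (by norm_num)).1 h3).trans hb
  have hFp : IsPGroup 3 (pCore 3 R) := Cfsg.Agent.Lib.Cores.pCore_isPGroup 3
  obtain ⟨r, hr⟩ := hFp.index (frattini (pCore 3 R))
  have hrn := (Cfsg.Agent.H541.AutFrattini.card_frattini hF hr)
  have hr3 : r ≤ 3 := by
    by_contra hcon
    push Not at hcon
    have hr4 : r = 4 := by omega
    have hn4' : n = 4 := by omega
    subst hr4
    subst hn4'
    have hfr : frattini (pCore 3 R) = ⊥ := Subgroup.card_eq_one.1 (by rw [hrn.1]; norm_num)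
    refine not_comm_81 ((pCore 3 R).map R.subtype) ?_ ?_
    · rw [Subgroup.card_map_of_injective R.subtype_injective, hF]; norm_num
    · rintro _ ⟨x, hx, rfl⟩ _ ⟨y, hy, rfl⟩
      have h1 := Cfsg.Agent.Lib.FrattiniPGroup.commutator_mem_frattini hFp ⟨x, hx⟩ ⟨y, hy⟩
      rw [hfr, mem_bot, commutatorElement_eq_one_iff_mul_comm] at h1
      have h3 := congrArg Subtype.val h1
      exact congrArg Subtype.val h3
  have ha5 : a ≤ 5 := by
    apply two_part hF hr hr3
    have h1 : 2 ^ a ∣ (centralizer (pCore 3 R : Set R)).index := by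
      have h3 := (centralizer (pCore 3 R : Set R)).card_mul_index
      have h4 : Nat.card (centralizer (pCore 3 R : Set R)) ∣ 3 ^ n := by
        rw [← hF]; exact Subgroup.card_dvd_of_le hC
      have h5 : 2 ^ a ∣ Nat.card (centralizer (pCore 3 R : Set R)) *
          (centralizer (pCore 3 R : Set R)).index := by
        rw [h3, hR]; exact Dvd.intro _ rfl
      apply Nat.Coprime.dvd_of_dvd_mul_left _ h5
      exact Nat.Coprime.coprime_dvd_right h4 (Nat.Coprime.pow _ _ (by norm_num))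
    exact h1.trans (index_centralizer_dvd _)
  have h32 : 2 ^ a ≤ 32 := by
    calc 2 ^ a ≤ 2 ^ 5 := Nat.pow_le_pow_right (by norm_num) ha5
      _ = 32 := by norm_num
  rcases hb.lt_or_eq with hb3 | rfl
  · refine card_conjClasses_le_card.trans ?_
    rw [hR]
    calc 2 ^ a * 3 ^ b ≤ 32 * 3 ^ 3 :=
          Nat.mul_le_mul h32 (Nat.pow_le_pow_right (by norm_num) (by omega))
      _ ≤ 1502 := by norm_num
  · obtain ⟨P⟩ : Nonempty (Sylow 3 R) := inferInstance
    have hP : Nat.card P = 81 := by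
      rw [P.card_eq_multiplicity, hR]
      have : (2 ^ a * 3 ^ 4).factorization 3 = 4 := by
        rw [Nat.factorization_mul (by positivity) (by positivity), Nat.Prime.factorization_pow
          Nat.prime_two, Nat.Prime.factorization_pow Nat.prime_three]
        simp
      rw [this]
      norm_num
    have hidx : (P : Subgroup R).index = 2 ^ a := by
      have h1 := (P : Subgroup R).card_mul_index
      rw [hR] at h1
      have h3 : Nat.card (P : Subgroup R) = 81 := hP
      rw [h3] at h1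
      have : 81 * (P : Subgroup R).index = 81 * 2 ^ a := by rw [h1]; ring
      exact Nat.eq_of_mul_eq_mul_left (by norm_num) this
    have hk : Nat.card (ConjClasses (P : Subgroup R)) ≤ 33 := by
      apply k_81 hP
      by_contra hcon
      push Not at hcon
      refine not_comm_81 ((P : Subgroup R).map R.subtype) ?_ ?_
      · rw [Subgroup.card_map_of_injective R.subtype_injective]; exact hP
      · rintro _ ⟨x, hx, rfl⟩ _ ⟨y, hy, rfl⟩
        have h1 := congrArg Subtype.val (hcon ⟨x, hx⟩ ⟨y, hy⟩)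
        exact congrArg Subtype.val h1
    have h1 := le_index_mul' (P : Subgroup R)
    rw [hidx] at h1
    calc Nat.card (ConjClasses R) ≤ 2 ^ a * Nat.card (ConjClasses (P : Subgroup R)) := h1
      _ ≤ 32 * 33 := Nat.mul_le_mul h32 hk
      _ ≤ 1502 := by norm_num

theorem sp6_five (R : Subgroup (Matrix.symplecticGroup (Fin 3) (ZMod 2))) (h : ¬ 5 ∣ Nat.card R)
    (h2 : PCoreTriv 2 R) : Nat.card (ConjClasses R) ≤ 1502 := by
  by_cases h7 : 7 ∣ Nat.card R
  · exact caseSeven R h h7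
  · exact caseTwoThree R h h7 h2

end Cfsg.Agent.H192.KSp
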