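import Cfsg.Agent.H192.SingerMult
import Cfsg.Agent.H192.SingerLS
import Cfsg.Agent.H912.Bd2

/-!
# From a linear group with simple central quotient to the hypotheses `PR` of the degree bounds (helper192)
-/

set_option autoImplicit false

namespace Cfsg.Agent.H192.Singer

open Cfsg Cfsg.Agent.OrdDiv Cfsg.Agent.H436 Cfsg.Agent.H915.GN

universe u v

/-- A linear group `L` with simple central quotient `T` of Lie type in characteristic `r` gives a projective
representation with kernel of order prime to `r`, if the order of the kernel of `L → T` is prime to `r` or `r ≥ 5`. -/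
theorem pr_of {F : Type u} [Field F] [Finite F] {n r : ℕ} {L : Subgroup (Matrix.GeneralLinearGroup (Fin n) F)}
    {T : Type v} [Group T] [IsSimpleGroup T] (hna : ∃ x y : T, x * y ≠ y * x) (φ : L →* T)
    (hφ : Function.Surjective φ) (hker : φ.ker ≤ Subgroup.center L) {g : Grp} (hreal : Real g T) (hcond : Cond g)
    (hr : r.Prime) (hch : HasChar r g) (hcard : (Nat.card φ.ker).Coprime r ∨ 5 ≤ r) : H912.Bd.PR F n r T := by
  rcases hcard with hcard | h5
  · refine ⟨L, inferInstance, φ, L.subtype, hφ, ?_, hcard, ?_⟩
    · intro x hx y
      exact (Subgroup.mem_center_iff.1 (hker (MonoidHom.mem_ker.2 hx)) y).symm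
    · intro x hx
      have h1 : x = 1 := Subtype.ext (MonoidHom.mem_ker.1 hx)
      rw [h1]; exact Subgroup.one_mem _
  · have hT := commutator_eq_top hna
    have hP := commutator_perfect φ hφ hker hT
    have hs : Function.Surjective (φ.comp (commutator L).subtype) := by
      intro t
      obtain ⟨k, hk, hkt⟩ := exists_mem_commutator φ hφ hT t
      exact ⟨⟨k, hk⟩, hkt⟩
    have hc : (φ.comp (commutator L).subtype).ker ≤ Subgroup.center (commutator L) := by
      intro x hx
      have h1 : (x : L) ∈ Subgroup.center L := hker (MonoidHom.mem_ker.2 (MonoidHom.mem_ker.1 hx))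
      rw [Subgroup.mem_center_iff] at h1 ⊢
      intro y
      exact Subtype.ext (h1 y)
    refine ⟨commutator L, inferInstance, φ.comp (commutator L).subtype, L.subtype.comp (commutator L).subtype, hs,
      ?_, ker_coprime hreal hcond hr h5 hch hP _ hs hc, ?_⟩
    · intro x hx y
      exact (Subgroup.mem_center_iff.1 (hc (MonoidHom.mem_ker.2 hx)) y).symm
    · intro x hx
      have h1 : x = 1 := Subtype.ext (Subtype.ext (MonoidHom.mem_ker.1 hx))
      rw [h1]; exact Subgroup.one_mem _

end Cfsg.Agent.H192.Singer
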