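import Cfsg.Agent.H192.SingerMain
import Cfsg.Agent.H192.SingerBd
import Cfsg.Agent.H192.SingerPR
import Cfsg.Agent.H264.GN.Main
import Cfsg.Agent.H927.SgXExc

/-!
# Overgroups of a Singer torus: the theorems (helper192)

`sl_final`, `su_final` : `L` a linear group of prime degree `n ≥ 5` with simple central quotient `T`, the kernel of
order dividing `n`, whose order and Singer number satisfy the numerical conditions of `SLNum` / `SUNum`: then `#T` is
the order of `PSL n q` / `PSU n q`.
-/

set_option autoImplicit false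

namespace Cfsg.Agent.H192.Singer

open Cfsg Cfsg.Agent.OrdDiv Cfsg.Agent.H436 Cfsg.Agent.H915.GN Cfsg.Agent.H927.SgX

universe u

theorem gnStmt : GNStmt := fun hp hn h5 hE hc hch _ he hdvd hs => H264.GN.gn hp hn h5 hE hc hch he hdvd hs

/-- **The degree bounds in cross characteristic.** -/
theorem lsb_le {F : Type*} [Field F] [Finite F] {n : ℕ} (hn : n.Prime) (h5 : 5 ≤ n)
    {L : Subgroup (Matrix.GeneralLinearGroup (Fin n) F)}
    {T : Type u} [Group T] [IsSimpleGroup T] (hna : ∃ x y : T, x * y ≠ y * x) (φ : L →* T)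
    (hφ : Function.Surjective φ) (hker : φ.ker ≤ Subgroup.center L) (hcard : Nat.card φ.ker ∣ n) {g : Grp}
    (hg : IsNamed g T) {r : ℕ} (hr : r.Prime) (hch : HasChar r g) (hrF : (r : F) ≠ 0) : lsb g ≤ n := by
  by_cases hexc : IsExcN g
  · exact exc_le hexc hg.cond hna hg.real hr hch hrF φ hφ hker
  · have hPR : H912.Bd.PR F n r T := by
      refine pr_of hna φ hφ hker hg.real hg.cond hr hch ?_
      by_cases hrn : r = n
      · right; omega
      · left
        exact Nat.Coprime.coprime_dvd_left hcard ((Nat.coprime_primes hn hr).2 (Ne.symm hrn))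
    have h1 := lbc_le hg.real hg.cond hr hrF hch hPR
    refine le_trans ?_ h1
    cases g <;> first | exact le_rfl | exact absurd trivial hexc

theorem sl_final (TB : OrderTable.{u}) {F : Type*} [Field F] [Fintype F] {n q : ℕ}
    (hF : Fintype.card F = q) {L : Subgroup (Matrix.GeneralLinearGroup (Fin n) F)} {T : Type u} [Group T]
    (hna : ∃ x y : T, x * y ≠ y * x) (hsimp : IsSimpleGroup T) (hK : IsKnownSimple' T) (φ : L →* T)
    (hφ : Function.Surjective φ)
    (hker : φ.ker ≤ Subgroup.center L) (hcard : Nat.card φ.ker ∣ n) {d : ℕ} (h : SLNum n q (Nat.card T) d)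
    (hle : n * d * (d + 1) ≤ Nat.card T) :
    Nat.card T * ((q - 1) * Nat.gcd n (q - 1)) = glN n q := by
  refine sl_main gnStmt TB hF hna hK φ hφ hker h fun g r hg hr hch hrF => ?_
  exact sl_cross hg.cond hch hg.eq h hle (lsb_le h.np h.five_le hna φ hφ hker hcard hg hr hch hrF)

theorem su_final (TB : OrderTable.{u}) {F : Type*} [Field F] [Fintype F] {n q : ℕ}
    (hF : Fintype.card F = q ^ 2) {L : Subgroup (Matrix.GeneralLinearGroup (Fin n) F)} {T : Type u} [Group T]
    (hna : ∃ x y : T, x * y ≠ y * x) (hsimp : IsSimpleGroup T) (hK : IsKnownSimple' T) (φ : L →* T)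
    (hφ : Function.Surjective φ)
    (hker : φ.ker ≤ Subgroup.center L) (hcard : Nat.card φ.ker ∣ n) {d : ℕ} (h : SUNum n q (Nat.card T) d)
    (h52 : ¬ (n = 5 ∧ q = 2)) (hle : n * d * (d + 1) ≤ Nat.card T) :
    Nat.card T * ((q + 1) * Nat.gcd n (q + 1)) = q ^ (n * (n - 1) / 2) * prU q n := by
  refine su_main gnStmt TB hF hna hK φ hφ hker h h52 fun g r hg hr hch hrF => ?_
  exact su_cross hg.cond hch hg.eq h h52 hle (lsb_le h.np h.five_le hna φ hφ hker hcard hg hr hch hrF)

end Cfsg.Agent.H192.Singer
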