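import Cfsg.Agent.H436.Names
import Cfsg.Agent.H915.GNDefs
import Cfsg.Agent.H95.StemCover
import Cfsg.Agent.S2086
import Cfsg.Agent.S2089
import Cfsg.Agent.S2092
import Cfsg.Agent.S2094
import Cfsg.Agent.S2096
import Cfsg.Agent.S2097
import Cfsg.Agent.S2099
import Cfsg.Agent.S2100
import Cfsg.Agent.S2103
import Cfsg.Agent.S2105
import Cfsg.Agent.S2106
import Cfsg.Agent.S2107
import Cfsg.Agent.S2108
import Cfsg.Agent.S2110

/-!
# Perfect central extensions of groups of Lie type in characteristic `r ≥ 5` have kernels of order prime to `r` (helper192)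
-/

set_option autoImplicit false

namespace Cfsg.Agent.H192.Singer

open Cfsg Cfsg.Agent.OrdDiv Cfsg.Agent.H436 Cfsg.Agent.H915.GN

universe u v

theorem coprime_of {T : Type u} [Group T] {S : Type v} [Group S] {A : Type*} [CommGroup A] (hA : HasSchurMultiplier S A)
    {r : ℕ} (h : (Nat.card A).Coprime r) (e : T ≃* S) {P : Type*} [Group P] (hP : commutator P = ⊤) (π : P →* T)
    (hπ : Function.Surjective π) (hπc : π.ker ≤ Subgroup.center P) : (Nat.card π.ker).Coprime r := by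
  have hk : (e.toMonoidHom.comp π).ker = π.ker := by
    ext x
    rw [MonoidHom.mem_ker, MonoidHom.mem_ker]
    exact e.map_eq_one_iff
  have h1 := H95.StemCover.card_ker_dvd hA hP (e.toMonoidHom.comp π) (e.surjective.comp hπ) (by rw [hk]; exact hπc)
  rw [hk] at h1
  exact Nat.Coprime.coprime_dvd_left h1 h

theorem coprime_of_cyclic {T : Type u} [Group T] {S : Type v} [Group S] {m : ℕ} (hA : HasCyclicSchurMultiplier S m)
    {r : ℕ} (h : m.Coprime r) (e : T ≃* S) {P : Type*} [Group P] (hP : commutator P = ⊤) (π : P →* T)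
    (hπ : Function.Surjective π) (hπc : π.ker ≤ Subgroup.center P) : (Nat.card π.ker).Coprime r :=
  coprime_of hA (by rwa [Nat.card_congr Multiplicative.toAdd, Nat.card_zmod]) e hP π hπ hπc

theorem cop_of_le {r m : ℕ} (hr : r.Prime) (h0 : 0 < m) (h : m < r) : m.Coprime r :=
  ((Nat.Prime.coprime_iff_not_dvd hr).2 fun hd => by
    have := Nat.le_of_dvd h0 hd
    omega).symm

theorem cop_gcd {r m k : ℕ} (hr : r.Prime) (h0 : 0 < m) (h : m < r) : (Nat.gcd m k).Coprime r :=
  Nat.Coprime.coprime_dvd_left (Nat.gcd_dvd_left _ _) (cop_of_le hr h0 h)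

theorem ne_of_pow {r f k : ℕ} (hr : r.Prime) (h5 : 5 ≤ r) (hk : ∀ z : ℕ, z.Prime → z ∣ k → z < 5) (hk0 : k ≠ 1) :
    r ^ f ≠ k := by
  rintro rfl
  rcases Nat.eq_zero_or_pos f with rfl | hf
  · exact hk0 (pow_zero r)
  · have := hk r hr (dvd_pow_self r hf.ne')
    omega

theorem prime_lt_of_dvd {k z : ℕ} (hk : k ∣ 2 ^ 10 * 3 ^ 10) (hz : z.Prime) (h : z ∣ k) : z < 5 := by
  have h1 := h.trans hk
  rcases hz.dvd_mul.1 h1 with h2 | h2
  · have := (Nat.prime_dvd_prime_iff_eq hz Nat.prime_two).1 (hz.dvd_of_dvd_pow h2)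
    omega
  · have := (Nat.prime_dvd_prime_iff_eq hz Nat.prime_three).1 (hz.dvd_of_dvd_pow h2)
    omega

/-- **In characteristic `r ≥ 5` the kernel of a perfect central extension has order prime to `r`.** -/
theorem ker_coprime {T : Type u} [Group T] {g : Grp} (hreal : Real g T) (hcond : Cond g) {r : ℕ} (hr : r.Prime)
    (h5 : 5 ≤ r) (hch : HasChar r g) {P : Type v} [Group P] (hP : commutator P = ⊤) (π : P →* T)
    (hπ : Function.Surjective π) (hπc : π.ker ≤ Subgroup.center P) : (Nat.card π.ker).Coprime r := by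
  have hq1 : ∀ f : ℕ, 1 ≤ f → (r ^ f - 1).Coprime r := by
    intro f hf
    have h1 : 1 ≤ r ^ f := Nat.one_le_pow _ _ hr.pos
    have h2 : (r ^ f - 1).Coprime (r ^ f) := by
      have h3 : Nat.Coprime (r ^ f - 1) (r ^ f - 1 + 1) := by simp
      rwa [Nat.sub_add_cancel h1] at h3
    exact Nat.Coprime.coprime_dvd_right (dvd_pow_self r (by omega)) h2
  have hq2 : ∀ f : ℕ, 1 ≤ f → (r ^ f + 1).Coprime r := by
    intro f hf
    have h2 : (r ^ f + 1).Coprime (r ^ f) := by simp
    exact Nat.Coprime.coprime_dvd_right (dvd_pow_self r (by omega)) h2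
  have hf0 : ∀ f : ℕ, IsPrimePow (r ^ f) → 1 ≤ f := by
    intro f hf
    rcases Nat.eq_zero_or_pos f with rfl | h
    · exact absurd (pow_zero r ▸ hf) not_isPrimePow_one
    · exact h
  have hne : ∀ f k : ℕ, k ∣ 2 ^ 10 * 3 ^ 10 → k ≠ 1 → r ^ f ≠ k := fun f k h1 h2 =>
    ne_of_pow hr h5 (fun z hz hzk => prime_lt_of_dvd h1 hz hzk) h2
  cases g with
  | psl n q =>
    obtain ⟨f, rfl⟩ := hch
    obtain ⟨K, _, _, hK, ⟨e⟩⟩ := hreal
    refine coprime_of_cyclic (S2086.result hK n hcond.1 hcond.2.1 ?_) ?_ e hP π hπ hπc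
    · simp only [Set.mem_insert_iff, Set.mem_singleton_iff, Prod.mk.injEq, not_or, not_and]
      refine ⟨fun _ => hne f 4 (by decide) (by decide), fun _ => hne f 9 (by decide) (by decide),
        fun _ => hne f 2 (by decide) (by decide), fun _ => hne f 4 (by decide) (by decide),
        fun _ => hne f 2 (by decide) (by decide)⟩
    · exact Nat.Coprime.coprime_dvd_left (Nat.gcd_dvd_right _ _) (hq1 f (hf0 f hcond.2.2))
  | psp n q =>
    obtain ⟨f, rfl⟩ := hch
    obtain ⟨K, _, _, hK, ⟨e⟩⟩ := hreal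
    exact coprime_of_cyclic (S2092.result hK n hcond.1 hcond.2.1
      (fun h => hne f 2 (by decide) (by decide) h.2)) (cop_gcd hr (by norm_num) (by omega)) e hP π hπ hπc
  | psu n q =>
    obtain ⟨f, rfl⟩ := hch
    obtain ⟨K, _, _, hK, ⟨e⟩⟩ := hreal
    refine coprime_of_cyclic (S2089.result n (r ^ f) hK hcond.1 hcond.2.1 ?_) ?_ e hP π hπ hπc
    · simp only [Set.mem_insert_iff, Set.mem_singleton_iff, Prod.mk.injEq, not_or, not_and]
      refine ⟨fun _ => hne f 2 (by decide) (by decide), fun _ => hne f 3 (by decide) (by decide),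
        fun _ => hne f 2 (by decide) (by decide)⟩
    · exact Nat.Coprime.coprime_dvd_left (Nat.gcd_dvd_right _ _) (hq2 f (hf0 f hcond.2.2))
  | oodd n q =>
    obtain ⟨f, rfl⟩ := hch
    obtain ⟨K, _, _, hK, ⟨e⟩⟩ := hreal
    exact coprime_of_cyclic (S2094.result hK hcond.2.1 n hcond.1
      (fun h => hne f 3 (by decide) (by decide) h.2)) (cop_of_le hr (by norm_num) (by omega)) e hP π hπ hπc
  | oplus n q =>
    obtain ⟨f, rfl⟩ := hch
    obtain ⟨K, _, _, hK, ⟨e⟩⟩ := hreal
    rcases Nat.even_or_odd n with h | h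
    · refine coprime_of (S2097.result hK n hcond.1 h (fun h => hne f 2 (by decide) (by decide) h.2)) ?_ e hP π hπ hπc
      rw [Nat.card_congr Multiplicative.toAdd, Nat.card_prod, Nat.card_zmod]
      exact Nat.Coprime.mul_left (cop_gcd hr (by norm_num) (by omega)) (cop_gcd hr (by norm_num) (by omega))
    · refine coprime_of_cyclic (S2096.result hK n ?_ h) (cop_gcd hr (by norm_num) (by omega)) e hP π hπ hπc
      have := hcond.1
      obtain ⟨k, hk⟩ := h
      omega
  | ominus n q =>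
    obtain ⟨f, rfl⟩ := hch
    obtain ⟨K, _, _, a, b, hK, hab, ⟨e⟩⟩ := hreal
    exact coprime_of_cyclic (S2099.result hK n hcond.1 a b hab) (cop_gcd hr (by norm_num) (by omega)) e hP π hπ hπc
  | g2 q =>
    obtain ⟨f, rfl⟩ := hch
    obtain ⟨K, _, _, hK, ⟨e⟩⟩ := hreal
    refine coprime_of_cyclic (S2100.result ?_) (Nat.coprime_one_left r) e hP π hπ hπc
    rw [hK]
    have h1 := hf0 f hcond.2
    exact h5.trans (Nat.le_self_pow (by omega) r)
  | f4 q =>
    obtain ⟨f, rfl⟩ := hch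
    obtain ⟨K, _, _, hK, ⟨e⟩⟩ := hreal
    refine coprime_of_cyclic (S2103.result ?_) (Nat.coprime_one_left r) e hP π hπ hπc
    rw [hK]
    have h1 := hf0 f hcond
    exact (show 3 ≤ r by omega).trans (Nat.le_self_pow (by omega) r)
  | e6 q =>
    obtain ⟨f, rfl⟩ := hch
    obtain ⟨K, _, _, hK, ⟨e⟩⟩ := hreal
    exact coprime_of_cyclic (S2105.result hK) (cop_gcd hr (by norm_num) (by omega)) e hP π hπ hπc
  | e7 q =>
    obtain ⟨f, rfl⟩ := hch
    obtain ⟨K, _, _, hK, ⟨e⟩⟩ := hreal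
    exact coprime_of_cyclic (S2106.result hK) (cop_gcd hr (by norm_num) (by omega)) e hP π hπ hπc
  | e8 q =>
    obtain ⟨K, _, _, hK, ⟨e⟩⟩ := hreal
    exact coprime_of_cyclic S2107.result (Nat.coprime_one_left r) e hP π hπ hπc
  | te6 q =>
    obtain ⟨f, rfl⟩ := hch
    obtain ⟨K, _, _, hK, ⟨e⟩⟩ := hreal
    exact coprime_of_cyclic (S2108.result hcond hK (hne f 2 (by decide) (by decide)))
      (cop_gcd hr (by norm_num) (by omega)) e hP π hπ hπc
  | td4 q =>
    obtain ⟨K, _, _, hK, ⟨e⟩⟩ := hreal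
    exact coprime_of_cyclic (S2110.result hcond hK) (Nat.coprime_one_left r) e hP π hπ hπc
  | sz q =>
    exfalso
    obtain ⟨f, rfl⟩ := hch
    obtain ⟨m, -, hm⟩ := hcond
    have h1 : r ∣ 2 ^ (2 * m + 1) := by
      rw [← hm]
      refine dvd_pow_self r ?_
      rintro rfl
      rw [pow_zero] at hm
      have : 2 ^ 1 ≤ 2 ^ (2 * m + 1) := Nat.pow_le_pow_right (by norm_num) (by omega)
      omega
    have := (Nat.prime_dvd_prime_iff_eq hr Nat.prime_two).1 (hr.dvd_of_dvd_pow h1)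
    omega
  | ree q =>
    exfalso
    obtain ⟨f, rfl⟩ := hch
    obtain ⟨m, -, hm⟩ := hcond
    have h1 : r ∣ 3 ^ (2 * m + 1) := by
      rw [← hm]
      refine dvd_pow_self r ?_
      rintro rfl
      rw [pow_zero] at hm
      have : 3 ^ 1 ≤ 3 ^ (2 * m + 1) := Nat.pow_le_pow_right (by norm_num) (by omega)
      omega
    have := (Nat.prime_dvd_prime_iff_eq hr Nat.prime_three).1 (hr.dvd_of_dvd_pow h1)
    omega
  | tf4 q =>
    exfalso
    obtain ⟨f, rfl⟩ := hch
    obtain ⟨m, -, hm⟩ := hcond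
    have h1 : r ∣ 2 ^ (2 * m + 1) := by
      rw [← hm]
      refine dvd_pow_self r ?_
      rintro rfl
      rw [pow_zero] at hm
      have : 2 ^ 1 ≤ 2 ^ (2 * m + 1) := Nat.pow_le_pow_right (by norm_num) (by omega)
      omega
    have := (Nat.prime_dvd_prime_iff_eq hr Nat.prime_two).1 (hr.dvd_of_dvd_pow h1)
    omega
  | _ => exact absurd hch id

end Cfsg.Agent.H192.Singer
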