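import Cfsg.Agent.OrdDiv.Main
import Cfsg.Agent.Lib.Zsigmondy

/-!
# Numerical data of a Singer (Coxeter) torus of `PSL_n(q)`, `PSU_n(q)`, `n` prime (helper192)

`SLNum n q c d` : `c` is the order of a subgroup of `PSL_n(q)` containing the torus of order
`d = (q ^ n - 1) / ((q - 1) * gcd n (q - 1))`; `SUNum n q c d` : the same for `PSU_n(q)` and
`d = (q ^ n + 1) / ((q + 1) * gcd n (q + 1))`.
All prime divisors of `d` are congruent to `1` modulo `2 n`.
-/

set_option autoImplicit false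

namespace Cfsg.Agent.H192.Singer

open Cfsg.Agent.OrdDiv

/-- numerical data of an overgroup of the Singer torus of `PSL_n(q)` -/
structure SLNum (n q c d : ℕ) : Prop where
  np : n.Prime
  five_le : 5 ≤ n
  pp : IsPrimePow q
  hd : d * ((q - 1) * Nat.gcd n (q - 1)) = q ^ n - 1
  dvd : d ∣ c
  hc : c * ((q - 1) * Nat.gcd n (q - 1)) ∣ glN n q

/-- numerical data of an overgroup of the Coxeter torus of `PSU_n(q)` -/
structure SUNum (n q c d : ℕ) : Prop where
  np : n.Prime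
  five_le : 5 ≤ n
  pp : IsPrimePow q
  hd : d * ((q + 1) * Nat.gcd n (q + 1)) = q ^ n + 1
  dvd : d ∣ c
  hc : c * ((q + 1) * Nat.gcd n (q + 1)) ∣ q ^ (n * (n - 1) / 2) * prU q n

/-! ### general arithmetic -/

theorem sub_geom (q n : ℕ) (hq : 1 ≤ q) : q ^ n - 1 = (q - 1) * ∑ i ∈ Finset.range n, q ^ i := by
  have h := Nat.geomSum_eq (m := q) (n := n)
  rcases Nat.eq_or_lt_of_le hq with h1 | h1
  · subst h1; simp
  · rw [h h1, Nat.mul_div_cancel' (by simpa using Nat.sub_dvd_pow_sub_pow q 1 n)]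

theorem geom_modEq {q n z : ℕ} (h : z ∣ q - 1) (hq : 1 ≤ q) : z ∣ ∑ i ∈ Finset.range n, q ^ i ↔ z ∣ n := by
  have h1 : (q : ZMod z) = 1 := by
    have h2 : ((q - 1 : ℕ) : ZMod z) = 0 := (ZMod.natCast_eq_zero_iff _ _).2 h
    rw [Nat.cast_sub hq] at h2
    push_cast at h2
    exact sub_eq_zero.1 h2
  rw [← ZMod.natCast_eq_zero_iff, ← ZMod.natCast_eq_zero_iff]
  push_cast
  rw [h1]
  simp

theorem add_geom (q n : ℕ) (hn : Odd n) :
    ((q ^ n + 1 : ℕ) : ℤ) = (q + 1 : ℕ) * ∑ i ∈ Finset.range n, (-(q : ℤ)) ^ i := by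
  have h := mul_geom_sum (-(q : ℤ)) n
  rw [hn.neg_pow] at h
  push_cast
  linarith

theorem add_geom_modEq {q n z : ℕ} (h : z ∣ q + 1) :
    ((∑ i ∈ Finset.range n, (-(q : ℤ)) ^ i : ℤ) : ZMod z) = n := by
  have h1 : (-(q : ZMod z)) = 1 := by
    have h2 : ((q + 1 : ℕ) : ZMod z) = 0 := (ZMod.natCast_eq_zero_iff _ _).2 h
    push_cast at h2
    linear_combination -h2
  push_cast
  rw [h1]
  simp

namespace SLNum

variable {n q c d : ℕ}

theorem two_le (h : SLNum n q c d) : 2 ≤ q := h.pp.two_le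

theorem n_odd (h : SLNum n q c d) : Odd n := h.np.odd_of_ne_two (by have := h.five_le; omega)

theorem gcd_pos (h : SLNum n q c d) : 0 < Nat.gcd n (q - 1) :=
  Nat.gcd_pos_of_pos_left _ (by have := h.five_le; omega)

theorem mul_gcd (h : SLNum n q c d) : d * Nat.gcd n (q - 1) = ∑ i ∈ Finset.range n, q ^ i := by
  have h2 := h.two_le
  have h1 := h.hd
  rw [sub_geom q n (by omega)] at h1
  apply Nat.eq_of_mul_eq_mul_left (show 0 < q - 1 by omega)
  rw [← h1]; ring

/-- a prime divisor of `d` does not divide `q - 1` -/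
theorem not_dvd (h : SLNum n q c d) {z : ℕ} (hz : z.Prime) (hzd : z ∣ d) : ¬ z ∣ q - 1 := by
  intro hzq
  have h2 := h.two_le
  have h1 : z ∣ n := by
    rw [← geom_modEq hzq (by omega), ← h.mul_gcd]
    exact hzd.mul_right _
  obtain rfl : z = n := (Nat.prime_dvd_prime_iff_eq hz h.np).1 h1
  have := Fact.mk hz
  have h3 : Nat.gcd z (q - 1) = z := Nat.gcd_eq_left hzq
  have h4 := padicValNat.pow_sub_pow (p := z) h.n_odd (x := q) (y := 1) (by omega) hzq ?_ (n := z) (by have := h.five_le; omega)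
  · rw [one_pow, ← h.hd, h3] at h4
    have hd0 : d ≠ 0 := by
      rintro rfl
      have := h.hd
      rw [zero_mul] at this
      have h5 : 2 ^ z ≤ q ^ z := Nat.pow_le_pow_left h2 z
      have h6 : 2 ^ 5 ≤ 2 ^ z := Nat.pow_le_pow_right (by norm_num) h.five_le
      omega
    rw [padicValNat.mul hd0 (Nat.mul_ne_zero (by omega) hz.ne_zero),
      padicValNat.mul (by omega) hz.ne_zero] at h4
    have h5 : 1 ≤ padicValNat z d := one_le_padicValNat_of_dvd hd0 hzd
    omega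
  · intro h5
    have h6 : z ∣ 1 := by
      have := Nat.dvd_sub h5 hzq
      rwa [Nat.sub_sub_self (by omega)] at this
    exact hz.one_lt.ne' (Nat.dvd_one.1 h6)

theorem dvd_pow_sub (h : SLNum n q c d) {z : ℕ} (hzd : z ∣ d) : z ∣ q ^ n - 1 := by
  rw [← h.hd]; exact hzd.mul_right _

/-- the order of `q` modulo a prime divisor of `d` -/
theorem orderOf_eq (h : SLNum n q c d) {z : ℕ} (hz : z.Prime) (hzd : z ∣ d) : orderOf (q : ZMod z) = n := by
  have h2 := h.two_le
  have h1 := (Lib.Zsigmondy.dvd_pow_sub_one_iff (a := q) (r := z) (by omega) n).1 (h.dvd_pow_sub hzd)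
  rcases (Nat.dvd_prime h.np).1 h1 with h3 | h3
  · exfalso
    refine h.not_dvd hz hzd ?_
    have := (Lib.Zsigmondy.dvd_pow_sub_one_iff (a := q) (r := z) (by omega) 1).2 (by rw [h3])
    rwa [pow_one] at this
  · exact h3

theorem not_dvd_q (h : SLNum n q c d) {z : ℕ} (hz : z.Prime) (hzd : z ∣ d) : ¬ z ∣ q := by
  intro h1
  have h2 := h.two_le
  have h3 := h.dvd_pow_sub hzd
  have h4 : z ∣ q ^ n := dvd_pow h1 (by have := h.five_le; omega)
  have h5 : z ∣ 1 := by
    have := Nat.dvd_sub h4 h3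
    rwa [Nat.sub_sub_self (Nat.one_le_pow _ _ (by omega))] at this
  exact hz.one_lt.ne' (Nat.dvd_one.1 h5)

/-- a prime divisor of `d` is congruent to `1` modulo `2 n` -/
theorem two_mul_dvd (h : SLNum n q c d) {z : ℕ} (hz : z.Prime) (hzd : z ∣ d) : 2 * n ∣ z - 1 := by
  have h1 : n ∣ z - 1 := by
    rw [← h.orderOf_eq hz hzd]
    exact Lib.Zsigmondy.orderOf_dvd_pred hz (h.not_dvd_q hz hzd)
  have hz2 : z ≠ 2 := by
    rintro rfl
    have := Nat.le_of_dvd (by norm_num) h1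
    have := h.five_le
    omega
  refine Nat.Coprime.mul_dvd_of_dvd_of_dvd ?_ ?_ h1
  · exact Nat.coprime_two_left.2 h.n_odd
  · have := hz.eq_two_or_odd
    omega

theorem d_pos (h : SLNum n q c d) : 0 < d := by
  rcases Nat.eq_zero_or_pos d with h1 | h1
  · exfalso
    have h2 := h.hd
    rw [h1, zero_mul] at h2
    have h5 : 2 ^ n ≤ q ^ n := Nat.pow_le_pow_left h.two_le n
    have h6 : 2 ^ 5 ≤ 2 ^ n := Nat.pow_le_pow_right (by norm_num) h.five_le
    omega
  · exact h1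

/-- `q ^ (n - 1) ≤ d * n` -/
theorem pow_le (h : SLNum n q c d) : q ^ (n - 1) ≤ d * n := by
  have h1 : q ^ (n - 1) ≤ ∑ i ∈ Finset.range n, q ^ i :=
    Finset.single_le_sum (f := fun i => q ^ i) (fun _ _ => Nat.zero_le _)
      (Finset.mem_range.2 (by have := h.five_le; omega))
  rw [← h.mul_gcd] at h1
  exact h1.trans (Nat.mul_le_mul_left _ (Nat.gcd_le_left _ (by have := h.five_le; omega)))

theorem one_lt (h : SLNum n q c d) : 1 < d := by
  by_contra hcon
  have h1 := h.d_pos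
  have h2 : d = 1 := by omega
  have h3 := h.pow_le
  rw [h2, one_mul] at h3
  have h4 : 2 ^ (n - 1) ≤ q ^ (n - 1) := Nat.pow_le_pow_left h.two_le _
  have h5 : n - 1 + 2 ≤ 2 ^ (n - 1) := by
    have : ∀ m, 2 ≤ m → m + 2 ≤ 2 ^ m := by
      intro m hm
      induction m, hm using Nat.le_induction with
      | base => norm_num
      | succ m hm ih => rw [pow_succ]; omega
    exact this _ (by have := h.five_le; omega)
  omega

theorem exists_prime (h : SLNum n q c d) : ∃ z, z.Prime ∧ z ∣ d := Nat.exists_prime_and_dvd h.one_lt.ne'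

end SLNum

namespace SUNum

variable {n q c d : ℕ}

theorem two_le (h : SUNum n q c d) : 2 ≤ q := h.pp.two_le

theorem n_odd (h : SUNum n q c d) : Odd n := h.np.odd_of_ne_two (by have := h.five_le; omega)

theorem gcd_pos (h : SUNum n q c d) : 0 < Nat.gcd n (q + 1) :=
  Nat.gcd_pos_of_pos_left _ (by have := h.five_le; omega)

theorem mul_gcd (h : SUNum n q c d) :
    ((d * Nat.gcd n (q + 1) : ℕ) : ℤ) = ∑ i ∈ Finset.range n, (-(q : ℤ)) ^ i := by
  have h1 := add_geom q n h.n_odd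
  rw [← h.hd] at h1
  have h2 : ((q + 1 : ℕ) : ℤ) ≠ 0 := by positivity
  apply mul_left_cancel₀ h2
  rw [← h1]; push_cast; ring

theorem d_pos (h : SUNum n q c d) : 0 < d := by
  rcases Nat.eq_zero_or_pos d with h1 | h1
  · exfalso
    have h2 := h.hd
    rw [h1, zero_mul] at h2
    omega
  · exact h1

/-- a prime divisor of `d` does not divide `q + 1` -/
theorem not_dvd (h : SUNum n q c d) {z : ℕ} (hz : z.Prime) (hzd : z ∣ d) : ¬ z ∣ q + 1 := by
  intro hzq
  have h2 := h.two_le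
  have h1 : z ∣ n := by
    have h3 := h.mul_gcd
    have h4 := add_geom_modEq (n := n) hzq
    rw [← h3] at h4
    have h5 : (((d * Nat.gcd n (q + 1) : ℕ) : ℤ) : ZMod z) = ((d * Nat.gcd n (q + 1) : ℕ) : ZMod z) := by
      push_cast; rfl
    rw [h5, (ZMod.natCast_eq_zero_iff _ _).2 (hzd.mul_right _)] at h4
    exact (ZMod.natCast_eq_zero_iff _ _).1 h4.symm
  obtain rfl : z = n := (Nat.prime_dvd_prime_iff_eq hz h.np).1 h1
  have := Fact.mk hz
  have h3 : Nat.gcd z (q + 1) = z := Nat.gcd_eq_left hzq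
  have h4 := padicValNat.pow_add_pow (p := z) h.n_odd (x := q) (y := 1) hzq ?_ (n := z) h.n_odd
  · rw [one_pow, ← h.hd, h3] at h4
    have hd0 : d ≠ 0 := h.d_pos.ne'
    rw [padicValNat.mul hd0 (Nat.mul_ne_zero (by omega) hz.ne_zero),
      padicValNat.mul (by omega) hz.ne_zero] at h4
    have h5 : 1 ≤ padicValNat z d := one_le_padicValNat_of_dvd hd0 hzd
    have h6 : padicValNat z z = 1 := padicValNat.self hz.one_lt
    omega
  · intro h5
    have h6 : z ∣ 1 := by
      have := Nat.dvd_sub hzq h5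
      rwa [Nat.add_sub_cancel_left] at this
    exact hz.one_lt.ne' (Nat.dvd_one.1 h6)

theorem dvd_pow_add (h : SUNum n q c d) {z : ℕ} (hzd : z ∣ d) : z ∣ q ^ n + 1 := by
  rw [← h.hd]; exact hzd.mul_right _

theorem not_dvd_q (h : SUNum n q c d) {z : ℕ} (hz : z.Prime) (hzd : z ∣ d) : ¬ z ∣ q := by
  intro h1
  have h3 := h.dvd_pow_add hzd
  have h4 : z ∣ q ^ n := dvd_pow h1 (by have := h.five_le; omega)
  have h5 : z ∣ 1 := (Nat.dvd_add_right h4).1 h3
  exact hz.one_lt.ne' (Nat.dvd_one.1 h5)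

theorem ne_two (h : SUNum n q c d) {z : ℕ} (hz : z.Prime) (hzd : z ∣ d) : z ≠ 2 := by
  rintro rfl
  have h1 := h.not_dvd hz hzd
  have h2 := h.not_dvd_q hz hzd
  omega

/-- the order of `q` modulo a prime divisor of `d` -/
theorem orderOf_eq (h : SUNum n q c d) {z : ℕ} (hz : z.Prime) (hzd : z ∣ d) : orderOf (q : ZMod z) = 2 * n := by
  have := Fact.mk hz
  have h1 : (q : ZMod z) ^ n = -1 := by
    have h2 := (ZMod.natCast_eq_zero_iff (q ^ n + 1) z).2 (h.dvd_pow_add hzd)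
    push_cast at h2
    exact eq_neg_of_add_eq_zero_left h2
  have hne : (-1 : ZMod z) ≠ 1 := by
    intro h2
    have h3 : ((2 : ℕ) : ZMod z) = 0 := by push_cast; linear_combination -h2
    have h4 := (ZMod.natCast_eq_zero_iff 2 z).1 h3
    exact h.ne_two hz hzd ((Nat.prime_dvd_prime_iff_eq hz Nat.prime_two).1 h4)
  have h2 : orderOf (q : ZMod z) ∣ 2 * n := by
    rw [orderOf_dvd_iff_pow_eq_one, mul_comm, pow_mul, h1]
    ring
  have h3 : ¬ orderOf (q : ZMod z) ∣ n := by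
    rw [orderOf_dvd_iff_pow_eq_one, h1]
    exact hne
  have h4 : ¬ orderOf (q : ZMod z) ∣ 2 := by
    rw [orderOf_dvd_iff_pow_eq_one]
    intro h5
    apply h.not_dvd hz hzd
    obtain ⟨k, hk⟩ := h.n_odd
    rw [hk, pow_succ, pow_mul, h5, one_pow, one_mul] at h1
    rw [← ZMod.natCast_eq_zero_iff]
    push_cast
    rw [h1]; ring
  obtain ⟨a, b, ha, hb, hab⟩ := (Nat.dvd_mul (n := n)).1 h2
  rcases (Nat.dvd_prime Nat.prime_two).1 ha with rfl | rfl
  · rw [one_mul] at hab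
    exact absurd (hab ▸ hb) h3
  · rcases (Nat.dvd_prime h.np).1 hb with rfl | rfl
    · rw [mul_one] at hab
      exact absurd (hab ▸ dvd_rfl) h4
    · exact hab.symm

/-- a prime divisor of `d` is congruent to `1` modulo `2 n` -/
theorem two_mul_dvd (h : SUNum n q c d) {z : ℕ} (hz : z.Prime) (hzd : z ∣ d) : 2 * n ∣ z - 1 := by
  rw [← h.orderOf_eq hz hzd]
  exact Lib.Zsigmondy.orderOf_dvd_pred hz (h.not_dvd_q hz hzd)

/-- `q ^ (n - 1) ≤ 2 * d * n` -/
theorem pow_le (h : SUNum n q c d) : q ^ (n - 1) ≤ 2 * d * n := by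
  have h1 := h.hd
  have h2 := h.two_le
  have h3 : Nat.gcd n (q + 1) ≤ n := Nat.gcd_le_left _ (by have := h.five_le; omega)
  have h4 : q ^ n = q ^ (n - 1) * q := by
    rw [← pow_succ, Nat.sub_add_cancel (by have := h.five_le; omega)]
  have h5 : q ^ n + 1 ≤ d * ((q + 1) * n) := by
    rw [← h1]
    exact Nat.mul_le_mul_left _ (Nat.mul_le_mul_left _ h3)
  have h6 : d * ((q + 1) * n) ≤ d * ((2 * q) * n) :=
    Nat.mul_le_mul_left _ (Nat.mul_le_mul_right _ (by omega))
  have h7 : q ^ (n - 1) * q ≤ (2 * d * n) * q := by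
    rw [← h4]
    calc q ^ n ≤ d * ((2 * q) * n) := by omega
      _ = (2 * d * n) * q := by ring
  exact Nat.le_of_mul_le_mul_right h7 (by omega)

theorem one_lt (h : SUNum n q c d) : 1 < d := by
  by_contra hcon
  have h1 := h.d_pos
  have h2 : d = 1 := by omega
  have h3 := h.hd
  rw [h2, one_mul] at h3
  -- `(q + 1) * gcd ≤ (q + 1) ^ 2 < q ^ 5 + 1`
  have h4 : (q + 1) * Nat.gcd n (q + 1) ≤ (q + 1) * (q + 1) :=
    Nat.mul_le_mul_left _ (Nat.gcd_le_right _ (by omega))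
  have h5 : q ^ 5 ≤ q ^ n := Nat.pow_le_pow_right (by have := h.two_le; omega) h.five_le
  have h6 : (q + 1) * (q + 1) < q ^ 5 + 1 := by
    have h7 := h.two_le
    have h8 : (q + 1) * (q + 1) ≤ (2 * q) * (2 * q) := Nat.mul_le_mul (by omega) (by omega)
    have h9 : (2 * q) * (2 * q) ≤ q ^ 4 := by
      have : q ^ 4 = (q * q) * (q * q) := by ring
      rw [this]
      exact Nat.mul_le_mul (Nat.mul_le_mul_right _ h7) (Nat.mul_le_mul_right _ h7)
    have h10 : q ^ 4 ≤ q ^ 5 := Nat.pow_le_pow_right (by omega) (by norm_num)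
    omega
  omega

theorem exists_prime (h : SUNum n q c d) : ∃ z, z.Prime ∧ z ∣ d := Nat.exists_prime_and_dvd h.one_lt.ne'

end SUNum

end Cfsg.Agent.H192.Singer
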