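import Cfsg.Agent.H192.SingerNum

/-!
# No sporadic group (and not the Tits group) contains a Singer torus of `PSL_n(q)`, `PSU_n(q)`, `n ≥ 5` prime (helper192)
-/

set_option autoImplicit false

namespace Cfsg.Agent.H192.Singer

open Cfsg.Agent.OrdDiv

/-- product of prime powers -/
def pr (l : List (ℕ × ℕ)) : ℕ := (l.map fun x => x.1 ^ x.2).prod

theorem dvd_filter (P : ℕ → Bool) {d : ℕ} (hd : ∀ z : ℕ, z.Prime → z ∣ d → P z = true) :
    ∀ (l : List (ℕ × ℕ)), (∀ x ∈ l, x.1.Prime) → ∀ a, d ∣ a * pr l → d ∣ a * pr (l.filter fun x => P x.1) := by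
  intro l
  induction l with
  | nil => intro _ a h; simpa using h
  | cons x l ih =>
    intro hl a h
    have h1 : pr (x :: l) = x.1 ^ x.2 * pr l := rfl
    rw [h1] at h
    by_cases hP : P x.1 = true
    · rw [List.filter_cons_of_pos (by exact hP)]
      have h2 : pr (x :: l.filter fun x => P x.1) = x.1 ^ x.2 * pr (l.filter fun x => P x.1) := rfl
      rw [h2, ← mul_assoc]
      exact ih (fun y hy => hl y (List.mem_cons_of_mem _ hy)) (a * x.1 ^ x.2) (by rwa [mul_assoc])
    · rw [List.filter_cons_of_neg (by exact hP)]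
      apply ih (fun y hy => hl y (List.mem_cons_of_mem _ hy))
      have hx := hl x (List.mem_cons_self ..)
      have h3 : ¬ x.1 ∣ d := fun h4 => hP (hd _ hx h4)
      have h4 : Nat.Coprime d (x.1 ^ x.2) :=
        (Nat.Coprime.pow_left _ ((Nat.Prime.coprime_iff_not_dvd hx).2 h3)).symm
      rw [← mul_assoc, mul_comm a, mul_assoc] at h
      exact h4.dvd_of_dvd_mul_left h

theorem mem_of_prime_dvd {z : ℕ} (hz : z.Prime) :
    ∀ (l : List (ℕ × ℕ)), (∀ x ∈ l, x.1.Prime) → z ∣ pr l → ∃ x ∈ l, x.1 = z := by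
  intro l
  induction l with
  | nil => intro _ h; exact absurd (Nat.dvd_one.1 h) hz.one_lt.ne'
  | cons x l ih =>
    intro hl h
    have h1 : pr (x :: l) = x.1 ^ x.2 * pr l := rfl
    rw [h1] at h
    rcases hz.dvd_mul.1 h with h2 | h2
    · exact ⟨x, List.mem_cons_self .., ((Nat.prime_dvd_prime_iff_eq hz (hl x (List.mem_cons_self ..))).1
        (hz.dvd_of_dvd_pow h2)).symm⟩
    · obtain ⟨y, hy, h3⟩ := ih (fun y hy => hl y (List.mem_cons_of_mem _ hy)) h2
      exact ⟨y, List.mem_cons_of_mem _ hy, h3⟩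

/-- least common multiple of the orders of the sporadic groups -/
def sl : List (ℕ × ℕ) :=
  [(2, 46), (3, 20), (5, 9), (7, 6), (11, 3), (13, 3), (17, 1), (19, 1), (23, 1), (29, 1), (31, 1), (37, 1), (41, 1),
    (43, 1), (47, 1), (59, 1), (67, 1), (71, 1)]

theorem sl_prime : ∀ x ∈ sl, x.1.Prime := by
  intro x hx
  simp only [sl, List.mem_cons, List.not_mem_nil, or_false] at hx
  rcases hx with rfl | rfl | rfl | rfl | rfl | rfl | rfl | rfl | rfl | rfl | rfl | rfl | rfl | rfl | rfl | rfl |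
    rfl | rfl <;> norm_num

theorem sl_le : ∀ x ∈ sl, x.1 ≤ 71 := by decide

theorem spor_dvd : ∀ x ∈ spor, x.2 ∣ pr sl := by decide +kernel

/-- the part of `pr sl` with primes `1` modulo `2 n` -/
def pn (n : ℕ) : ℕ := pr (sl.filter fun x => (x.1 - 1) % (2 * n) == 0)

theorem pr_pos : ∀ (l : List (ℕ × ℕ)), (∀ x ∈ l, x.1.Prime) → 0 < pr l := by
  intro l
  induction l with
  | nil => intro _; exact Nat.one_pos
  | cons x l ih =>
    intro hl
    exact Nat.mul_pos (Nat.pow_pos (hl x (List.mem_cons_self ..)).pos) (ih fun y hy => hl y (List.mem_cons_of_mem _ hy))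

theorem pn_pos (n : ℕ) : 0 < pn n := pr_pos _ fun x hx => sl_prime x (List.mem_of_mem_filter hx)

theorem dvd_pn {n c d : ℕ} {g : Grp} (hg : (g, c) ∈ spor) (hd : d ∣ c)
    (hz : ∀ z : ℕ, z.Prime → z ∣ d → 2 * n ∣ z - 1) : d ∣ pn n := by
  have h1 := dvd_filter (fun z => (z - 1) % (2 * n) == 0) (d := d)
    (fun z h2 h3 => by simpa using Nat.mod_eq_zero_of_dvd (hz z h2 h3)) sl sl_prime 1
    (by rw [one_mul]; exact hd.trans (spor_dvd _ hg))
  rwa [one_mul] at h1

theorem n_le {n c d : ℕ} {g : Grp} (hg : (g, c) ∈ spor) (hd : d ∣ c)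
    (hz : ∀ z : ℕ, z.Prime → z ∣ d → 2 * n ∣ z - 1) (hex : ∃ z, z.Prime ∧ z ∣ d) : n ≤ 35 := by
  obtain ⟨z, h1, h2⟩ := hex
  obtain ⟨x, hx, h3⟩ := mem_of_prime_dvd h1 sl sl_prime (h2.trans (hd.trans (spor_dvd _ hg)))
  have h4 := sl_le x hx
  have h5 := Nat.le_of_dvd (by have := h1.two_le; omega) (hz z h1 h2)
  omega

/-- the order of the torus, linear case -/
def dSL (n q : ℕ) : ℕ := (q ^ n - 1) / ((q - 1) * Nat.gcd n (q - 1))

/-- the order of the torus, unitary case -/
def dSU (n q : ℕ) : ℕ := (q ^ n + 1) / ((q + 1) * Nat.gcd n (q + 1))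

/-- sporadic order passing the divisibility tests, linear case -/
def badSL (n q : ℕ) : Bool := spor.any fun x =>
  Nat.beq (x.2 % dSL n q) 0 && Nat.beq (glN n q % (x.2 * ((q - 1) * Nat.gcd n (q - 1)))) 0

/-- sporadic order passing the divisibility tests, unitary case -/
def badSU (n q : ℕ) : Bool := spor.any fun x =>
  Nat.beq (x.2 % dSU n q) 0 && Nat.beq ((q ^ (n * (n - 1) / 2) * prU q n) % (x.2 * ((q + 1) * Nat.gcd n (q + 1)))) 0

/-- the values of `q` for which the torus order divides `P` -/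
def candSL (n P b : ℕ) : List ℕ := (List.range b).filter fun q => Nat.ble 2 q && Nat.beq (P % dSL n q) 0

/-- the values of `q` for which the torus order divides `P` -/
def candSU (n P b : ℕ) : List ℕ := (List.range b).filter fun q => Nat.ble 2 q && Nat.beq (P % dSU n q) 0

theorem SLNum.d_eq {n q c d : ℕ} (h : SLNum n q c d) : d = dSL n q := by
  unfold dSL
  rw [← h.hd, Nat.mul_div_cancel _ (Nat.mul_pos (by have := h.two_le; omega) h.gcd_pos)]

theorem SUNum.d_eq {n q c d : ℕ} (h : SUNum n q c d) : d = dSU n q := by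
  unfold dSU
  rw [← h.hd, Nat.mul_div_cancel _ (Nat.mul_pos (by have := h.two_le; omega) h.gcd_pos)]

theorem SLNum.mem_cand {n q c d P b : ℕ} (h : SLNum n q c d) (hP : d ∣ P) (hb : q < b) : q ∈ candSL n P b := by
  unfold candSL
  rw [List.mem_filter]
  refine ⟨List.mem_range.2 hb, ?_⟩
  rw [Bool.and_eq_true]
  rw [Nat.ble_eq, Nat.beq_eq, ← h.d_eq]
  refine ⟨h.two_le, ?_⟩
  exact Nat.mod_eq_zero_of_dvd hP

theorem SUNum.mem_cand {n q c d P b : ℕ} (h : SUNum n q c d) (hP : d ∣ P) (hb : q < b) : q ∈ candSU n P b := by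
  unfold candSU
  rw [List.mem_filter]
  refine ⟨List.mem_range.2 hb, ?_⟩
  rw [Bool.and_eq_true]
  rw [Nat.ble_eq, Nat.beq_eq, ← h.d_eq]
  refine ⟨h.two_le, ?_⟩
  exact Nat.mod_eq_zero_of_dvd hP

theorem SLNum.bad {n q c d : ℕ} (h : SLNum n q c d) {g : Grp} (hg : (g, c) ∈ spor) : badSL n q = true := by
  unfold badSL
  rw [List.any_eq_true]
  refine ⟨_, hg, ?_⟩
  rw [Bool.and_eq_true, Nat.beq_eq, Nat.beq_eq, ← h.d_eq]
  exact ⟨Nat.mod_eq_zero_of_dvd h.dvd, Nat.mod_eq_zero_of_dvd h.hc⟩

theorem SUNum.bad {n q c d : ℕ} (h : SUNum n q c d) {g : Grp} (hg : (g, c) ∈ spor) : badSU n q = true := by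
  unfold badSU
  rw [List.any_eq_true]
  refine ⟨_, hg, ?_⟩
  rw [Bool.and_eq_true, Nat.beq_eq, Nat.beq_eq, ← h.d_eq]
  exact ⟨Nat.mod_eq_zero_of_dvd h.dvd, Nat.mod_eq_zero_of_dvd h.hc⟩

theorem check5 : (candSL 5 120110771 157).all (fun q => !badSL 5 q) = true := by decide +kernel
theorem check7 : (candSL 7 88537 10).all (fun q => !badSL 7 q) = true := by decide +kernel
theorem check11 : (candSL 11 1541 3).all (fun q => !badSL 11 q) = true := by decide +kernel
theorem checkU5 : (candSU 5 120110771 187).all (fun q => Nat.beq q 2 || !badSU 5 q) = true := by decide +kernel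
theorem checkU7 : (candSU 7 88537 11).all (fun q => !badSU 7 q) = true := by decide +kernel
theorem checkU11 : (candSU 11 1541 3).all (fun q => !badSU 11 q) = true := by decide +kernel

theorem lt_of_pow_le {q b k m : ℕ} (h : q ^ k ≤ m) (hm : m < b ^ k) : q < b := by
  by_contra hcon
  have := Nat.pow_le_pow_left (not_lt.1 hcon) k
  omega

/-- **Sporadic groups and the Tits group, linear case.** -/
theorem spor_SL {n q c d : ℕ} {g : Grp} (hg : (g, c) ∈ spor) (h : SLNum n q c d) : False := by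
  have h1 := dvd_pn hg h.dvd (fun z => h.two_mul_dvd)
  have h2 := n_le hg h.dvd (fun z => h.two_mul_dvd) h.exists_prime
  have h3 := h.five_le
  have h4 := h.np
  have h5 := h.pow_le
  have h6 := h.one_lt
  have h7 := h.two_le
  have h8 : d * n ≤ pn n * n := by
    exact Nat.mul_le_mul_right _ (Nat.le_of_dvd (pn_pos n) h1)
  have h9 : q ^ (n - 1) ≤ pn n * n := h5.trans h8
  have h10 : 2 ^ (n - 1) ≤ q ^ (n - 1) := Nat.pow_le_pow_left h7 _
  interval_cases n
  · have e : pn 5 = 120110771 := by decide +kernel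
    rw [e] at h1 h9
    have h11 := List.all_eq_true.1 check5 q (h.mem_cand h1 (lt_of_pow_le h9 (by norm_num)))
    rw [h.bad hg] at h11
    exact absurd h11 (by decide)
  · norm_num at h4
  · have e : pn 7 = 88537 := by decide +kernel
    rw [e] at h1 h9
    have h11 := List.all_eq_true.1 check7 q (h.mem_cand h1 (lt_of_pow_le h9 (by norm_num)))
    rw [h.bad hg] at h11
    exact absurd h11 (by decide)
  · norm_num at h4
  · norm_num at h4
  · norm_num at h4
  · have e : pn 11 = 1541 := by decide +kernel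
    rw [e] at h1 h9
    have h11 := List.all_eq_true.1 check11 q (h.mem_cand h1 (lt_of_pow_le h9 (by norm_num)))
    rw [h.bad hg] at h11
    exact absurd h11 (by decide)
  all_goals first
    | (norm_num at h4; done)
    | (have e : pn 13 = 1 := by decide +kernel
       rw [e] at h9; norm_num at h9 h10; omega)
    | (have e : pn 17 = 1 := by decide +kernel
       rw [e] at h9; norm_num at h9 h10; omega)
    | (have e : pn 19 = 1 := by decide +kernel
       rw [e] at h9; norm_num at h9 h10; omega)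
    | (have e : pn 23 = 47 := by decide +kernel
       rw [e] at h9; norm_num at h9 h10; omega)
    | (have e : pn 29 = 59 := by decide +kernel
       rw [e] at h9; norm_num at h9 h10; omega)
    | (have e : pn 31 = 1 := by decide +kernel
       rw [e] at h9; norm_num at h9 h10; omega)

/-- **Sporadic groups and the Tits group, unitary case.** -/
theorem spor_SU {n q c d : ℕ} {g : Grp} (hg : (g, c) ∈ spor) (h : SUNum n q c d) (h52 : ¬ (n = 5 ∧ q = 2)) :
    False := by
  have h1 := dvd_pn hg h.dvd (fun z => h.two_mul_dvd)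
  have h2 := n_le hg h.dvd (fun z => h.two_mul_dvd) h.exists_prime
  have h3 := h.five_le
  have h4 := h.np
  have h5 := h.pow_le
  have h6 := h.one_lt
  have h7 := h.two_le
  have h8 : 2 * d * n ≤ 2 * pn n * n := by
    exact Nat.mul_le_mul_right _ (Nat.mul_le_mul_left _ (Nat.le_of_dvd (pn_pos n) h1))
  have h9 : q ^ (n - 1) ≤ 2 * pn n * n := h5.trans h8
  have h10 : 2 ^ (n - 1) ≤ q ^ (n - 1) := Nat.pow_le_pow_left h7 _
  interval_cases n
  · have e : pn 5 = 120110771 := by decide +kernel
    rw [e] at h1 h9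
    have h11 := List.all_eq_true.1 checkU5 q (h.mem_cand h1 (lt_of_pow_le h9 (by norm_num)))
    rw [h.bad hg, Bool.not_true, Bool.or_false, Nat.beq_eq] at h11
    exact h52 ⟨rfl, h11⟩
  · norm_num at h4
  · have e : pn 7 = 88537 := by decide +kernel
    rw [e] at h1 h9
    have h11 := List.all_eq_true.1 checkU7 q (h.mem_cand h1 (lt_of_pow_le h9 (by norm_num)))
    rw [h.bad hg] at h11
    exact absurd h11 (by decide)
  · norm_num at h4
  · norm_num at h4
  · norm_num at h4
  · have e : pn 11 = 1541 := by decide +kernel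
    rw [e] at h1 h9
    have h11 := List.all_eq_true.1 checkU11 q (h.mem_cand h1 (lt_of_pow_le h9 (by norm_num)))
    rw [h.bad hg] at h11
    exact absurd h11 (by decide)
  all_goals first
    | (norm_num at h4; done)
    | (have e : pn 13 = 1 := by decide +kernel
       rw [e] at h9; norm_num at h9 h10; omega)
    | (have e : pn 17 = 1 := by decide +kernel
       rw [e] at h9; norm_num at h9 h10; omega)
    | (have e : pn 19 = 1 := by decide +kernel
       rw [e] at h9; norm_num at h9 h10; omega)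
    | (have e : pn 23 = 47 := by decide +kernel
       rw [e] at h9; norm_num at h9 h10; omega)
    | (have e : pn 29 = 59 := by decide +kernel
       rw [e] at h9; norm_num at h9 h10; omega)
    | (have e : pn 31 = 1 := by decide +kernel
       rw [e] at h9; norm_num at h9 h10; omega)

end Cfsg.Agent.H192.Singer
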